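import Groth.Agent.Lib.CMMor6.Algebra
import Groth.Agent.Lib.FibreFlat.Stalk
import Groth.Prelude.Def_MoreMor
import Mathlib.RingTheory.TensorProduct.Quotient

/-!
# Cohen–Macaulay morphisms
-/

set_option autoImplicit false
set_option linter.style.haveILetI false

universe u

open CategoryTheory CategoryTheory.Limits AlgebraicGeometry IsLocalRing TensorProduct

namespace GrothLib.CMMor6

/-- The fibre ring at a point. -/
abbrev FibQuot {X S : Scheme.{u}} (f : X ⟶ S) (x : X) : Type u :=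
  X.presheaf.stalk x ⧸ (maximalIdeal (S.presheaf.stalk (f x))).map (f.stalkMap x).hom

theorem nonempty_fibQuot_equiv {X S : Scheme.{u}} (f : X ⟶ S) (x : X) :
    Nonempty (FibQuot f x ≃+* (f.fiber (f x)).presheaf.stalk (f.asFiber x)) := by
  obtain ⟨hsurj, hker⟩ := GrothLib.FibreFlat.fiberι_stalkMap' f (f x) (f.asFiber x) x (f.fiberι_asFiber x)
  exact ⟨(Ideal.quotEquivOfEq hker.symm).trans (RingHom.quotientKerEquivOfSurjective hsurj)⟩

theorem isCMAt_iff {X S : Scheme.{u}} (f : X ⟶ S) (x : X) :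
    MoreMor.IsCMAt f x ↔ (f.stalkMap x).hom.Flat ∧ LocCoh.IsCohenMacaulayLocalRing (FibQuot f x) := by
  obtain ⟨e⟩ := nonempty_fibQuot_equiv f x
  refine and_congr_right fun _ => ⟨fun h => ?_, fun h => ?_⟩
  · exact GrothLib.HB26.isCohenMacaulayLocalRing_of_ringEquiv e.symm
  · exact GrothLib.HB26.isCohenMacaulayLocalRing_of_ringEquiv e

theorem isNoetherianRing_fibQuot {X S : Scheme.{u}} (f : X ⟶ S) (x : X)
    [IsLocallyNoetherian (f.fiber (f x))] : IsNoetherianRing (FibQuot f x) := by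
  obtain ⟨e⟩ := nonempty_fibQuot_equiv f x
  exact isNoetherianRing_of_ringEquiv _ e.symm

theorem flat_quotient {B C : Type u} [CommRing B] [CommRing C] [Algebra B C] [Module.Flat B C] (J : Ideal B) :
    Module.Flat (B ⧸ J) (C ⧸ J.map (algebraMap B C)) := by
  let e : (B ⧸ J) ⊗[B] C ≃ₗ[B] C ⧸ J.map (algebraMap B C) :=
    (TensorProduct.comm B _ _).trans
      ((Algebra.TensorProduct.quotIdealMapEquivTensorQuot C J).symm.toLinearEquiv.restrictScalars B)
  exact Module.Flat.of_linearEquiv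
    (LinearEquiv.extendScalarsOfSurjective (S := B ⧸ J) Ideal.Quotient.mk_surjective e).symm

/-- The two closed fibres in a tower of local rings. -/
theorem cm_fibre_tower {A B C : Type u} [CommRing A] [CommRing B] [CommRing C] [IsLocalRing A]
    [IsLocalRing B] [IsLocalRing C] [Algebra A B] [Algebra B C] [Algebra A C] [IsScalarTower A B C]
    [IsLocalHom (algebraMap A B)] [IsLocalHom (algebraMap B C)] [Module.Flat B C]
    [IsNoetherianRing (B ⧸ (maximalIdeal A).map (algebraMap A B))]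
    [IsNoetherianRing (C ⧸ (maximalIdeal A).map (algebraMap A C))] :
    LocCoh.IsCohenMacaulayLocalRing (C ⧸ (maximalIdeal A).map (algebraMap A C)) ↔
      LocCoh.IsCohenMacaulayLocalRing (B ⧸ (maximalIdeal A).map (algebraMap A B)) ∧
        LocCoh.IsCohenMacaulayLocalRing (C ⧸ (maximalIdeal B).map (algebraMap B C)) := by
  let J := (maximalIdeal A).map (algebraMap A B)
  let K := J.map (algebraMap B C)
  have hK : K = (maximalIdeal A).map (algebraMap A C) := isScalarTower_quot _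
  have hJ : J ≤ maximalIdeal B := ((local_hom_TFAE (algebraMap A B)).out 0 2 rfl rfl).1 inferInstance
  have hKC : K ≤ maximalIdeal C := (Ideal.map_mono hJ).trans
    (((local_hom_TFAE (algebraMap B C)).out 0 2 rfl rfl).1 inferInstance)
  haveI := (Ideal.Quotient.nontrivial_iff (I := J)).2 (ne_top_of_le_ne_top (maximalIdeal.isMaximal B).ne_top hJ)
  haveI := (Ideal.Quotient.nontrivial_iff (I := K)).2 (ne_top_of_le_ne_top (maximalIdeal.isMaximal C).ne_top hKC)
  haveI : IsLocalRing (B ⧸ J) := IsLocalRing.of_surjective' (Ideal.Quotient.mk _) Ideal.Quotient.mk_surjective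
  haveI : IsLocalRing (C ⧸ K) := IsLocalRing.of_surjective' (Ideal.Quotient.mk _) Ideal.Quotient.mk_surjective
  haveI : IsLocalHom (Ideal.Quotient.mk J) := IsLocalHom.of_surjective _ Ideal.Quotient.mk_surjective
  haveI : IsNoetherianRing (C ⧸ K) := isNoetherianRing_of_ringEquiv _ (Ideal.quotEquivOfEq hK).symm
  haveI : IsLocalHom (Ideal.Quotient.mk K) := IsLocalHom.of_surjective _ Ideal.Quotient.mk_surjective
  haveI : IsLocalHom (algebraMap (B ⧸ J) (C ⧸ K)) := ⟨fun b hb => by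
    obtain ⟨b, rfl⟩ := Ideal.Quotient.mk_surjective b
    exact ((isUnit_of_map_unit (algebraMap B C) b
      (isUnit_of_map_unit (Ideal.Quotient.mk K) (algebraMap B C b) hb))).map _⟩
  haveI : Module.Flat (B ⧸ J) (C ⧸ K) := flat_quotient J
  have h := cm_iff_of_flat_local (A := B ⧸ J) (B := C ⧸ K)
  have hm : (maximalIdeal (B ⧸ J)).map (algebraMap (B ⧸ J) (C ⧸ K)) =
      ((maximalIdeal B).map (algebraMap B C)).map (Ideal.Quotient.mk K) := by
    rw [← IsLocalRing.map_maximalIdeal_of_surjective (Ideal.Quotient.mk J) Ideal.Quotient.mk_surjective]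
    exact ((maximalIdeal B).map_map (Ideal.Quotient.mk J) (algebraMap (B ⧸ J) (C ⧸ K))).trans
      ((maximalIdeal B).map_map (algebraMap B C) (Ideal.Quotient.mk K)).symm
  let e := (Ideal.quotEquivOfEq hm).trans (DoubleQuot.quotQuotEquivQuotOfLE (Ideal.map_mono (f := algebraMap B C) hJ))
  let e₀ := Ideal.quotEquivOfEq hK
  constructor
  · intro hC
    haveI := hC
    obtain ⟨h1, h2⟩ := h.1 (GrothLib.HB26.isCohenMacaulayLocalRing_of_ringEquiv e₀.symm)
    haveI := h2
    exact ⟨h1, GrothLib.HB26.isCohenMacaulayLocalRing_of_ringEquiv e⟩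
  · rintro ⟨h1, h2⟩
    haveI := h2
    haveI := h.2 ⟨h1, GrothLib.HB26.isCohenMacaulayLocalRing_of_ringEquiv e.symm⟩
    exact GrothLib.HB26.isCohenMacaulayLocalRing_of_ringEquiv e₀

theorem isCMAt_comp {X Y Z : Scheme.{u}} (f : X ⟶ Y) (g : Y ⟶ Z) (x : X)
    (hN : IsLocallyNoetherian ((f ≫ g).fiber (g (f x))))
    (hf : MoreMor.IsCMAt f x) (hg : MoreMor.IsCMAt g (f x)) : MoreMor.IsCMAt (f ≫ g) x := by
  rw [isCMAt_iff] at hf hg ⊢
  haveI : IsNoetherianRing (FibQuot (f ≫ g) x) :=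
    haveI : IsLocallyNoetherian ((f ≫ g).fiber ((f ≫ g) x)) := hN
    isNoetherianRing_fibQuot (f ≫ g) x
  have hcomp : (f ≫ g).stalkMap x = g.stalkMap (f x) ≫ f.stalkMap x := Scheme.Hom.stalkMap_comp f g x
  refine ⟨by rw [hcomp]; exact RingHom.Flat.comp hg.1 hf.1, ?_⟩
  letI : Algebra (Z.presheaf.stalk (g (f x))) (Y.presheaf.stalk (f x)) := (g.stalkMap (f x)).hom.toAlgebra
  letI : Algebra (Y.presheaf.stalk (f x)) (X.presheaf.stalk x) := (f.stalkMap x).hom.toAlgebra
  letI : Algebra (Z.presheaf.stalk (g (f x))) (X.presheaf.stalk x) := ((f ≫ g).stalkMap x).hom.toAlgebra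
  haveI : IsScalarTower (Z.presheaf.stalk (g (f x))) (Y.presheaf.stalk (f x)) (X.presheaf.stalk x) :=
    IsScalarTower.of_algebraMap_eq' (congrArg CommRingCat.Hom.hom hcomp)
  haveI : IsLocalHom (algebraMap (Z.presheaf.stalk (g (f x))) (Y.presheaf.stalk (f x))) :=
    inferInstanceAs (IsLocalHom (g.stalkMap (f x)).hom)
  haveI : IsLocalHom (algebraMap (Y.presheaf.stalk (f x)) (X.presheaf.stalk x)) :=
    inferInstanceAs (IsLocalHom (f.stalkMap x).hom)
  haveI : Module.Flat (Y.presheaf.stalk (f x)) (X.presheaf.stalk x) := hf.1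
  haveI : IsNoetherianRing (Y.presheaf.stalk (f x) ⧸ (maximalIdeal (Z.presheaf.stalk (g (f x)))).map
      (algebraMap (Z.presheaf.stalk (g (f x))) (Y.presheaf.stalk (f x)))) := by haveI := hg.2; infer_instance
  haveI : IsNoetherianRing (X.presheaf.stalk x ⧸ (maximalIdeal (Z.presheaf.stalk (g (f x)))).map
      (algebraMap (Z.presheaf.stalk (g (f x))) (X.presheaf.stalk x))) := ‹IsNoetherianRing (FibQuot (f ≫ g) x)›
  exact (cm_fibre_tower (A := Z.presheaf.stalk (g (f x))) (B := Y.presheaf.stalk (f x))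
    (C := X.presheaf.stalk x)).2 ⟨hg.2, hf.2⟩

theorem isCMAt_of_comp {X Y Z : Scheme.{u}} (f : X ⟶ Y) (g : Y ⟶ Z) (x : X)
    (hNg : IsLocallyNoetherian (g.fiber (g (f x))))
    (h : MoreMor.IsCMAt (f ≫ g) x) (hfl : (f.stalkMap x).hom.Flat) :
    MoreMor.IsCMAt f x ∧ MoreMor.IsCMAt g (f x) := by
  rw [isCMAt_iff, isCMAt_iff]
  rw [isCMAt_iff] at h
  haveI : IsNoetherianRing (FibQuot g (f x)) := isNoetherianRing_fibQuot g (f x)
  have hcomp : (f ≫ g).stalkMap x = g.stalkMap (f x) ≫ f.stalkMap x := Scheme.Hom.stalkMap_comp f g x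
  letI : Algebra (Z.presheaf.stalk (g (f x))) (Y.presheaf.stalk (f x)) := (g.stalkMap (f x)).hom.toAlgebra
  letI : Algebra (Y.presheaf.stalk (f x)) (X.presheaf.stalk x) := (f.stalkMap x).hom.toAlgebra
  letI : Algebra (Z.presheaf.stalk (g (f x))) (X.presheaf.stalk x) := ((f ≫ g).stalkMap x).hom.toAlgebra
  haveI : IsScalarTower (Z.presheaf.stalk (g (f x))) (Y.presheaf.stalk (f x)) (X.presheaf.stalk x) :=
    IsScalarTower.of_algebraMap_eq' (congrArg CommRingCat.Hom.hom hcomp)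
  haveI : IsLocalHom (algebraMap (Z.presheaf.stalk (g (f x))) (Y.presheaf.stalk (f x))) :=
    inferInstanceAs (IsLocalHom (g.stalkMap (f x)).hom)
  haveI : IsLocalHom (algebraMap (Y.presheaf.stalk (f x)) (X.presheaf.stalk x)) :=
    inferInstanceAs (IsLocalHom (f.stalkMap x).hom)
  haveI : Module.Flat (Y.presheaf.stalk (f x)) (X.presheaf.stalk x) := hfl
  haveI : Module.FaithfullyFlat (Y.presheaf.stalk (f x)) (X.presheaf.stalk x) :=
    Module.FaithfullyFlat.of_flat_of_isLocalHom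
  haveI : Module.Flat (Z.presheaf.stalk (g (f x))) (X.presheaf.stalk x) := h.1
  have hgfl : (g.stalkMap (f x)).hom.Flat :=
    flat_of_faithfullyFlat_comp (A := Z.presheaf.stalk (g (f x))) (B := Y.presheaf.stalk (f x))
      (C := X.presheaf.stalk x)
  haveI : IsNoetherianRing (Y.presheaf.stalk (f x) ⧸ (maximalIdeal (Z.presheaf.stalk (g (f x)))).map
      (algebraMap (Z.presheaf.stalk (g (f x))) (Y.presheaf.stalk (f x)))) :=
    ‹IsNoetherianRing (FibQuot g (f x))›
  haveI : IsNoetherianRing (X.presheaf.stalk x ⧸ (maximalIdeal (Z.presheaf.stalk (g (f x)))).map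
      (algebraMap (Z.presheaf.stalk (g (f x))) (X.presheaf.stalk x))) :=
    h.2.1
  have ht := (cm_fibre_tower (A := Z.presheaf.stalk (g (f x))) (B := Y.presheaf.stalk (f x))
    (C := X.presheaf.stalk x)).1 h.2
  exact ⟨⟨hfl, ht.2⟩, hgfl, ht.1⟩

theorem isCMAt_and_base_of_source {X Y : Scheme.{u}} (f : X ⟶ Y) [IsLocallyNoetherian X]
    [IsLocallyNoetherian Y] [Flat f] (x : X) (hX : LocCoh.IsCohenMacaulayLocalRing ↑(X.presheaf.stalk x)) :
    MoreMor.IsCMAt f x ∧ LocCoh.IsCohenMacaulayLocalRing ↑(Y.presheaf.stalk (f x)) := by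
  rw [isCMAt_iff]
  letI : Algebra (Y.presheaf.stalk (f x)) (X.presheaf.stalk x) := (f.stalkMap x).hom.toAlgebra
  haveI : IsLocalHom (algebraMap (Y.presheaf.stalk (f x)) (X.presheaf.stalk x)) :=
    inferInstanceAs (IsLocalHom (f.stalkMap x).hom)
  haveI : Module.Flat (Y.presheaf.stalk (f x)) (X.presheaf.stalk x) := Flat.stalkMap f x
  have h := (cm_iff_of_flat_local (A := Y.presheaf.stalk (f x)) (B := X.presheaf.stalk x)).1 hX
  exact ⟨⟨Flat.stalkMap f x, h.2⟩, h.1⟩

end GrothLib.CMMor6
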