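import Groth.Agent.S2062
import Groth.Agent.Lib.Depth.CM
import Groth.Agent.Lib.CMBasics.DimIneq
import Groth.Agent.Lib.DimCut.StalkFibre
import Groth.Agent.Lib.Faltings.Transfer
import Groth.Agent.Lib.HB26.Spread
import Mathlib.RingTheory.Flat.FaithfullyFlat.Algebra

/-!
# Cohen–Macaulay rings and flat local homomorphisms
-/

set_option autoImplicit false
set_option linter.style.haveILetI false

universe u

open IsLocalRing TensorProduct

namespace GrothLib.CMMor6

theorem depth_eq_of_linearEquiv {R M N : Type u} [CommRing R] [IsLocalRing R] [IsNoetherianRing R]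
    [AddCommGroup M] [Module R M] [Module.Finite R M] [AddCommGroup N] [Module R N] (e : M ≃ₗ[R] N) :
    LocCoh.depth R M = LocCoh.depth R N :=
  haveI : Module.Finite R N := Module.Finite.equiv e
  GrothLib.Depth.idealDepth_eq_of_equiv _ e

theorem ringKrullDim_eq_add {A B : Type u} [CommRing A] [CommRing B] [IsLocalRing A]
    [IsLocalRing B] [IsNoetherianRing A] [IsNoetherianRing B] [Algebra A B]
    [IsLocalHom (algebraMap A B)] [Module.Flat A B] :
    ringKrullDim B = ringKrullDim A + ringKrullDim (B ⧸ (maximalIdeal A).map (algebraMap A B)) := by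
  haveI : (maximalIdeal B).LiesOver (maximalIdeal A) :=
    ⟨(((local_hom_TFAE (algebraMap A B)).out 0 4 rfl rfl).1 inferInstance).symm⟩
  have hle : (maximalIdeal A).map (algebraMap A B) ≤ maximalIdeal B :=
    Ideal.map_le_iff_le_comap.2 (Ideal.LiesOver.over (P := maximalIdeal B) (p := maximalIdeal A)).le
  haveI := (Ideal.Quotient.nontrivial_iff (I := (maximalIdeal A).map (algebraMap A B))).2
    (ne_top_of_le_ne_top (maximalIdeal.isMaximal B).ne_top hle)
  haveI : IsLocalRing (B ⧸ (maximalIdeal A).map (algebraMap A B)) :=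
    IsLocalRing.of_surjective' (Ideal.Quotient.mk _) Ideal.Quotient.mk_surjective
  haveI : IsLocalHom (Ideal.Quotient.mk ((maximalIdeal A).map (algebraMap A B))) :=
    IsLocalHom.of_surjective _ Ideal.Quotient.mk_surjective
  rw [← maximalIdeal_height_eq_ringKrullDim, ← maximalIdeal_height_eq_ringKrullDim,
    ← maximalIdeal_height_eq_ringKrullDim, ← IsLocalRing.map_maximalIdeal_of_surjective (Ideal.Quotient.mk _)
      Ideal.Quotient.mk_surjective, ← WithBot.coe_add, WithBot.coe_inj]
  exact Ideal.height_eq_height_add_of_liesOver_of_hasGoingDown (maximalIdeal A) (maximalIdeal B)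

theorem depth_eq_add {A B : Type u} [CommRing A] [CommRing B] [IsLocalRing A] [IsLocalRing B]
    [IsNoetherianRing A] [IsNoetherianRing B] [Algebra A B] [IsLocalHom (algebraMap A B)] [Module.Flat A B]
    [IsLocalRing (B ⧸ (maximalIdeal A).map (algebraMap A B))] :
    LocCoh.depth B B = LocCoh.depth A A +
      LocCoh.depth (B ⧸ (maximalIdeal A).map (algebraMap A B)) (B ⧸ (maximalIdeal A).map (algebraMap A B)) := by
  have h := Groth.Agent.S2062.result (R := A) (S := B) (M := A) (N := B)
  rw [depth_eq_of_linearEquiv (AlgebraTensorModule.rid A B B)] at h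
  rw [h]
  refine congrArg _ ?_
  rw [depth_eq_of_linearEquiv (Submodule.quotEquivOfEq _ ((maximalIdeal A).map (algebraMap A B))
    (by rw [smul_eq_mul, Ideal.mul_top]))]
  exact GrothLib.Faltings.depth_eq_of_surjective Ideal.Quotient.mk_surjective _

theorem depth_le_dim (R : Type u) [CommRing R] [IsNoetherianRing R] [IsLocalRing R] :
    ((LocCoh.depth R R : ℕ∞) : WithBot ℕ∞) ≤ ringKrullDim R := by
  rw [← Module.supportDim_self_eq_ringKrullDim]
  exact GrothLib.Depth.depth_le_supportDim R R

theorem cm_iff (R : Type u) [CommRing R] [IsNoetherianRing R] [IsLocalRing R] :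
    LocCoh.IsCohenMacaulayLocalRing R ↔ ringKrullDim R = ((LocCoh.depth R R : ℕ∞) : WithBot ℕ∞) :=
  ⟨fun h => by rw [← Module.supportDim_self_eq_ringKrullDim]; exact h.supportDim_eq_depth,
    fun h => ⟨by rw [Module.supportDim_self_eq_ringKrullDim]; exact h⟩⟩

/-- A flat local algebra is Cohen–Macaulay iff base and closed fibre are. -/
theorem cm_iff_of_flat_local {A B : Type u} [CommRing A] [CommRing B] [IsLocalRing A] [IsLocalRing B]
    [IsNoetherianRing A] [IsNoetherianRing B] [Algebra A B] [IsLocalHom (algebraMap A B)] [Module.Flat A B] :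
    LocCoh.IsCohenMacaulayLocalRing B ↔ LocCoh.IsCohenMacaulayLocalRing A ∧
      LocCoh.IsCohenMacaulayLocalRing (B ⧸ (maximalIdeal A).map (algebraMap A B)) := by
  have hle : (maximalIdeal A).map (algebraMap A B) ≤ maximalIdeal B :=
    ((local_hom_TFAE (algebraMap A B)).out 0 2 rfl rfl).1 inferInstance
  haveI := (Ideal.Quotient.nontrivial_iff (I := (maximalIdeal A).map (algebraMap A B))).2
    (ne_top_of_le_ne_top (maximalIdeal.isMaximal B).ne_top hle)
  haveI : IsLocalRing (B ⧸ (maximalIdeal A).map (algebraMap A B)) :=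
    IsLocalRing.of_surjective' (Ideal.Quotient.mk _) Ideal.Quotient.mk_surjective
  let F := B ⧸ (maximalIdeal A).map (algebraMap A B)
  rw [cm_iff, cm_iff, cm_iff F, ringKrullDim_eq_add (A := A), depth_eq_add (A := A), WithBot.coe_add]
  refine ⟨fun h => ?_, fun ⟨h1, h2⟩ => by rw [h1, h2]⟩
  have ha := depth_le_dim A
  have hb := depth_le_dim F
  obtain ⟨a, ha'⟩ := WithBot.ne_bot_iff_exists.1 (ringKrullDim_ne_bot (R := A))
  obtain ⟨b, hb'⟩ := WithBot.ne_bot_iff_exists.1 (ringKrullDim_ne_bot (R := F))
  have ta : a ≠ ⊤ := fun e => (ringKrullDim_lt_top (R := A)).ne (by rw [← ha', e]; rfl)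
  have tb : b ≠ ⊤ := fun e => (ringKrullDim_lt_top (R := F)).ne (by rw [← hb', e]; rfl)
  rw [← ha', ← hb', ← WithBot.coe_add, ← WithBot.coe_add, WithBot.coe_inj] at h
  rw [← ha', WithBot.coe_le_coe] at ha
  rw [← hb', WithBot.coe_le_coe] at hb
  rw [← ha', ← hb', WithBot.coe_inj, WithBot.coe_inj]
  obtain ⟨a, rfl⟩ := ENat.ne_top_iff_exists.1 ta
  obtain ⟨b, rfl⟩ := ENat.ne_top_iff_exists.1 tb
  obtain ⟨a', ha''⟩ := ENat.ne_top_iff_exists.1 (ne_top_of_le_ne_top (ENat.coe_ne_top a) ha)
  obtain ⟨b', hb''⟩ := ENat.ne_top_iff_exists.1 (ne_top_of_le_ne_top (ENat.coe_ne_top b) hb)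
  rw [← ha'', ← hb'', ← Nat.cast_add, ← Nat.cast_add, Nat.cast_inj] at h
  rw [← ha'', Nat.cast_le] at ha
  rw [← hb'', Nat.cast_le] at hb
  rw [← ha'', ← hb'', Nat.cast_inj, Nat.cast_inj]
  omega

/-- Flatness descends along a faithfully flat algebra. -/
theorem flat_of_faithfullyFlat_comp {A B C : Type u} [CommRing A] [CommRing B] [CommRing C] [Algebra A B]
    [Algebra B C] [Algebra A C] [IsScalarTower A B C] [Module.FaithfullyFlat B C] [Module.Flat A C] :
    Module.Flat A B := by
  rw [Module.Flat.iff_lTensor_preserves_injective_linearMap]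
  intro N N' _ _ _ _ l hl
  refine (Module.FaithfullyFlat.lTensor_injective_iff_injective B C (AlgebraTensorModule.lTensor B B l)).1 ?_
  let e := fun (P : Type u) [AddCommGroup P] [Module A P] => AlgebraTensorModule.cancelBaseChange A B C C P
  have h := Module.Flat.lTensor_preserves_injective_linearMap (M := C) l hl
  intro x y hxy
  refine (e N).injective (h ?_)
  have hc : ∀ z, (l.lTensor C) (e N z) = e N' ((AlgebraTensorModule.lTensor B B l).lTensor C z) := by
    intro z
    induction z using TensorProduct.induction_on with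
    | zero => simp
    | add a b ha hb => simp [map_add, ha, hb]
    | tmul c w =>
      induction w using TensorProduct.induction_on with
      | zero => simp
      | add a b ha hb => simp [tmul_add, map_add, ha, hb]
      | tmul b n => simp [e]
  rw [hc, hc, hxy]

theorem isScalarTower_quot {A B C : Type u} [CommRing A] [CommRing B] [CommRing C] [Algebra A B]
    [Algebra B C] [Algebra A C] [IsScalarTower A B C] (I : Ideal A) :
    (I.map (algebraMap A B)).map (algebraMap B C) = I.map (algebraMap A C) := by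
  rw [Ideal.map_map, ← IsScalarTower.algebraMap_eq]

end GrothLib.CMMor6
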