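import Groth.Agent.Lib.CMMor6.Mor
import Groth.Agent.Lib.FFDesc.Basic
import Groth.Agent.Lib.Misc6.NoethFibres
import Groth.Agent.S2614

/-!
# Base change of Cohen–Macaulay morphisms
-/

set_option autoImplicit false
set_option backward.isDefEq.respectTransparency false
set_option linter.style.haveILetI false

universe u

open CategoryTheory CategoryTheory.Limits AlgebraicGeometry IsLocalRing TensorProduct

namespace GrothLib.CMMor6

theorem flat_stalk_of_comp {U V W : Scheme.{u}} (a : U ⟶ V) (h : V ⟶ W) (z : U)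
    (ha : (a.stalkMap z).hom.Flat) (hf : ((a ≫ h).stalkMap z).hom.Flat) : (h.stalkMap (a z)).hom.Flat := by
  letI : Algebra (W.presheaf.stalk (h (a z))) (V.presheaf.stalk (a z)) := (h.stalkMap (a z)).hom.toAlgebra
  letI : Algebra (V.presheaf.stalk (a z)) (U.presheaf.stalk z) := (a.stalkMap z).hom.toAlgebra
  letI : Algebra (W.presheaf.stalk (h (a z))) (U.presheaf.stalk z) := ((a ≫ h).stalkMap z).hom.toAlgebra
  haveI : IsScalarTower (W.presheaf.stalk (h (a z))) (V.presheaf.stalk (a z)) (U.presheaf.stalk z) :=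
    IsScalarTower.of_algebraMap_eq' (congrArg CommRingCat.Hom.hom (Scheme.Hom.stalkMap_comp a h z))
  haveI : IsLocalHom (algebraMap (V.presheaf.stalk (a z)) (U.presheaf.stalk z)) :=
    inferInstanceAs (IsLocalHom (a.stalkMap z).hom)
  haveI : Module.Flat (V.presheaf.stalk (a z)) (U.presheaf.stalk z) := ha
  haveI : Module.FaithfullyFlat (V.presheaf.stalk (a z)) (U.presheaf.stalk z) :=
    Module.FaithfullyFlat.of_flat_of_isLocalHom
  haveI : Module.Flat (W.presheaf.stalk (h (a z))) (U.presheaf.stalk z) := hf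
  exact flat_of_faithfullyFlat_comp (A := W.presheaf.stalk (h (a z))) (B := V.presheaf.stalk (a z))
    (C := U.presheaf.stalk z)

variable {X Y X' Y' : Scheme.{u}}

theorem flat_stalkMap_baseChange {f : X ⟶ Y} {f' : X' ⟶ Y'} {g' : X' ⟶ X} {g : Y' ⟶ Y}
    (hc : IsPullback g' f' f g) (x' : X') (h : (f.stalkMap (g' x')).hom.Flat) :
    (f'.stalkMap x').hom.Flat := by
  let a := X.fromSpecStalk (g' x')
  haveI : Flat a := GrothLib.FFDesc.flat_fromSpecStalk' X (g' x')
  haveI : Flat (a ≫ f) := by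
    show Flat (X.fromSpecStalk (g' x') ≫ f)
    rw [← Scheme.SpecMap_stalkMap_fromSpecStalk]
    haveI : Flat (Spec.map (f.stalkMap (g' x'))) := Flat.SpecMap_iff.mpr h
    haveI := GrothLib.FFDesc.flat_fromSpecStalk' Y (f (g' x'))
    infer_instance
  have sq := (IsPullback.of_hasPullback a g').paste_vert hc.flip.flip
  haveI : Flat (pullback.snd a g' ≫ f') := MorphismProperty.of_isPullback (P := @Flat) sq ‹_›
  haveI : Flat (pullback.snd a g') := MorphismProperty.pullback_snd _ _ inferInstance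
  obtain ⟨z, -, hz⟩ := Scheme.Pullback.exists_preimage_pullback (f := a) (g := g')
    (closedPoint (X.presheaf.stalk (g' x'))) x' Scheme.fromSpecStalk_closedPoint
  exact (congrArg (fun y => (f'.stalkMap y).hom.Flat) hz).mp
    (flat_stalk_of_comp (pullback.snd a g') f' z (Flat.stalkMap _ z) (Flat.stalkMap _ z))

theorem flat_stalkMap_descend {f : X ⟶ Y} {f' : X' ⟶ Y'} {g' : X' ⟶ X} {g : Y' ⟶ Y}
    (hc : IsPullback g' f' f g) (x' : X') (hg : (g.stalkMap (f' x')).hom.Flat)
    (h : (f'.stalkMap x').hom.Flat) : (f.stalkMap (g' x')).hom.Flat := by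
  refine flat_stalk_of_comp g' f x' (flat_stalkMap_baseChange hc.flip x' hg) ?_
  have e : ∀ (h₁ h₂ : X' ⟶ Y), h₁ = h₂ → (h₁.stalkMap x').hom.Flat → (h₂.stalkMap x').hom.Flat := by
    rintro _ _ rfl h; exact h
  refine e _ _ hc.w.symm ?_
  rw [Scheme.Hom.stalkMap_comp]
  exact RingHom.Flat.comp hg h

theorem cm_fiber_stalk_iff (f : X ⟶ Y) (s : Y) (w : f.fiber s) (x : X) (hw : f.fiberι s w = x) :
    LocCoh.IsCohenMacaulayLocalRing ((f.fiber s).presheaf.stalk w) ↔
      LocCoh.IsCohenMacaulayLocalRing (FibQuot f x) := by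
  obtain ⟨hsurj, hker⟩ := GrothLib.FibreFlat.fiberι_stalkMap' f s w x hw
  let e : FibQuot f x ≃+* (f.fiber s).presheaf.stalk w :=
    (Ideal.quotEquivOfEq hker.symm).trans (RingHom.quotientKerEquivOfSurjective hsurj)
  constructor
  · intro h; haveI := h; exact GrothLib.HB26.isCohenMacaulayLocalRing_of_ringEquiv e.symm
  · intro h; haveI := h; exact GrothLib.HB26.isCohenMacaulayLocalRing_of_ringEquiv e

theorem cm_stalk_spec (T : CommRingCat.{u}) [LocCoh.IsCohenMacaulayRing T] (q : Spec T) :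
    LocCoh.IsCohenMacaulayLocalRing ((Spec T).presheaf.stalk q) := by
  letI : Algebra T ((Spec T).presheaf.stalk q) := StructureSheaf.stalkAlgebra T q
  haveI : IsLocalization.AtPrime ((Spec T).presheaf.stalk q) q.asIdeal :=
    StructureSheaf.IsLocalization.to_stalk T q
  haveI := LocCoh.IsCohenMacaulayRing.isCohenMacaulayLocalRing_localization (R := T) q.asIdeal
  exact GrothLib.HB26.isCohenMacaulayLocalRing_of_ringEquiv
    (IsLocalization.algEquiv q.asIdeal.primeCompl (Localization.AtPrime q.asIdeal)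
      ((Spec T).presheaf.stalk q)).toRingEquiv

/-- Field extensions with Noetherian base change do not affect the Cohen–Macaulay property of a local ring. -/
theorem cm_stalk_fieldExtension' {k K : Type u} [Field k] [Field K] (e : k →+* K)
    {W P : Scheme.{u}} {h : W ⟶ Spec (CommRingCat.of k)} {p₁ : P ⟶ W} {p₂ : P ⟶ Spec (CommRingCat.of K)}
    (hP : IsPullback p₁ p₂ h (Spec.map (CommRingCat.ofHom e))) [IsLocallyNoetherian W] [IsLocallyNoetherian P]
    (z : P) (hT : letI := e.toAlgebra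
      letI := (Spec.preimage (W.fromSpecResidueField (p₁ z) ≫ h)).hom.toAlgebra
      LocCoh.IsCohenMacaulayRing (W.residueField (p₁ z) ⊗[k] K)) :
    LocCoh.IsCohenMacaulayLocalRing (P.presheaf.stalk z) ↔
      LocCoh.IsCohenMacaulayLocalRing (W.presheaf.stalk (p₁ z)) := by
  haveI : Flat (Spec.map (CommRingCat.ofHom e)) := by
    refine Flat.SpecMap_iff.mpr ?_
    letI := e.toAlgebra
    exact (inferInstance : Module.Flat k K)
  haveI : Flat p₁ := MorphismProperty.of_isPullback (P := @Flat) hP.flip ‹_›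
  letI : Algebra (W.presheaf.stalk (p₁ z)) (P.presheaf.stalk z) := (p₁.stalkMap z).hom.toAlgebra
  haveI : IsLocalHom (algebraMap (W.presheaf.stalk (p₁ z)) (P.presheaf.stalk z)) :=
    inferInstanceAs (IsLocalHom (p₁.stalkMap z).hom)
  haveI : Module.Flat (W.presheaf.stalk (p₁ z)) (P.presheaf.stalk z) := Flat.stalkMap p₁ z
  rw [cm_iff_of_flat_local (A := W.presheaf.stalk (p₁ z))]
  refine and_iff_left ?_
  show LocCoh.IsCohenMacaulayLocalRing (FibQuot p₁ z)
  rw [← cm_fiber_stalk_iff p₁ (p₁ z) (p₁.asFiber z) z (p₁.fiberι_asFiber z)]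
  let L := W.residueField (p₁ z)
  let ψ : CommRingCat.of k ⟶ L := Spec.preimage (W.fromSpecResidueField (p₁ z) ≫ h)
  letI : Algebra k L := ψ.hom.toAlgebra
  letI : Algebra k K := e.toAlgebra
  haveI : LocCoh.IsCohenMacaulayRing (L ⊗[k] K) := hT
  have hsq : IsPullback (p₁.fiberToSpecResidueField (p₁ z)) (p₁.fiberι (p₁ z) ≫ p₂)
      (Spec.map ψ) (Spec.map (CommRingCat.ofHom e)) := by
    rw [Spec.map_preimage]
    exact (IsPullback.of_hasPullback p₁ (W.fromSpecResidueField (p₁ z))).flip.paste_vert hP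
  let E : p₁.fiber (p₁ z) ≅ Spec (CommRingCat.of (L ⊗[k] K)) :=
    hsq.isoPullback ≪≫ pullbackSpecIso k L K
  haveI := cm_stalk_spec (CommRingCat.of (L ⊗[k] K)) (E.hom (p₁.asFiber z))
  exact GrothLib.HB26.isCohenMacaulayLocalRing_of_ringEquiv
    (asIso (E.hom.stalkMap (p₁.asFiber z))).commRingCatIsoToRingEquiv

/-- Finitely generated field extensions do not affect the Cohen–Macaulay property of a local ring. -/
theorem cm_stalk_fieldExtension {k K : Type u} [Field k] [Field K] (e : k →+* K) (he : e.EssFiniteType)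
    {W P : Scheme.{u}} {h : W ⟶ Spec (CommRingCat.of k)} {p₁ : P ⟶ W} {p₂ : P ⟶ Spec (CommRingCat.of K)}
    (hP : IsPullback p₁ p₂ h (Spec.map (CommRingCat.ofHom e))) [IsLocallyNoetherian W] (z : P) :
    LocCoh.IsCohenMacaulayLocalRing (P.presheaf.stalk z) ↔
      LocCoh.IsCohenMacaulayLocalRing (W.presheaf.stalk (p₁ z)) := by
  haveI : IsLocallyNoetherian P := (GrothLib.Misc6.isLocallyNoetherian_fieldExtension e he hP).2 ‹_›
  letI := e.toAlgebra
  letI := (Spec.preimage (W.fromSpecResidueField (p₁ z) ≫ h)).hom.toAlgebra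
  haveI : Algebra.EssFiniteType k K := he
  haveI : IsNoetherianRing (W.residueField (p₁ z) ⊗[k] K) :=
    GrothLib.Misc6.isNoetherianRing_tensor_iff.2 inferInstance
  exact cm_stalk_fieldExtension' e hP z (Groth.Agent.S2614.result k _ K (Or.inr ‹_›))

theorem cm_stalk_fieldExtension_finiteType {k K : Type u} [Field k] [Field K] (e : k →+* K)
    {W P : Scheme.{u}} {h : W ⟶ Spec (CommRingCat.of k)} {p₁ : P ⟶ W} {p₂ : P ⟶ Spec (CommRingCat.of K)}
    (hP : IsPullback p₁ p₂ h (Spec.map (CommRingCat.ofHom e))) [LocallyOfFiniteType h] (z : P) :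
    LocCoh.IsCohenMacaulayLocalRing (P.presheaf.stalk z) ↔
      LocCoh.IsCohenMacaulayLocalRing (W.presheaf.stalk (p₁ z)) := by
  haveI : LocallyOfFiniteType p₂ := MorphismProperty.of_isPullback (P := @LocallyOfFiniteType) hP ‹_›
  haveI : IsLocallyNoetherian W := LocallyOfFiniteType.isLocallyNoetherian h
  haveI : IsLocallyNoetherian P := LocallyOfFiniteType.isLocallyNoetherian p₂
  letI := e.toAlgebra
  let L := W.residueField (p₁ z)
  let ψ : CommRingCat.of k ⟶ L := Spec.preimage (W.fromSpecResidueField (p₁ z) ≫ h)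
  letI : Algebra k L := ψ.hom.toAlgebra
  haveI : Algebra.EssFiniteType k L :=
    RingHom.essFiniteType_algebraMap.mp (GrothLib.SchPoints.essFiniteType_residueField h (p₁ z))
  haveI : IsNoetherianRing (L ⊗[k] K) :=
    haveI : IsNoetherianRing (K ⊗[k] L) := Algebra.EssFiniteType.isNoetherianRing K _
    isNoetherianRing_of_ringEquiv _ (Algebra.TensorProduct.comm k K L).toRingEquiv
  exact cm_stalk_fieldExtension' e hP z (Groth.Agent.S2614.result k L K (Or.inl ‹_›))

theorem isCMAt_baseChange_iff_of_finiteType {f : X ⟶ Y} [LocallyOfFiniteType f]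
    {f' : X' ⟶ Y'} {g' : X' ⟶ X} {g : Y' ⟶ Y} (hc : IsPullback g' f' f g) (x' : X') :
    LocCoh.IsCohenMacaulayLocalRing (FibQuot f' x') ↔
      LocCoh.IsCohenMacaulayLocalRing (FibQuot f (g' x')) := by
  let y' := f' x'
  let π := pullback.map f' (Y'.fromSpecResidueField y') f (Y.fromSpecResidueField (g y')) g'
    (Spec.map (g.residueFieldMap y')) g hc.w.symm (by simp)
  have hπ := isPullback_fiberToSpecResidueField_of_isPullback hc y'
  haveI : LocallyOfFiniteType (f.fiberToSpecResidueField (g y')) := MorphismProperty.pullback_snd _ _ ‹_›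
  have h1 := cm_stalk_fieldExtension_finiteType (g.residueFieldMap y').hom hπ (f'.asFiber x')
  rw [← cm_fiber_stalk_iff f' y' (f'.asFiber x') x' (f'.fiberι_asFiber x')]
  refine h1.trans (cm_fiber_stalk_iff f (g y') _ (g' x') ?_)
  show (π ≫ pullback.fst f (Y.fromSpecResidueField (g y'))) (f'.asFiber x') = g' x'
  rw [pullback.lift_fst, Scheme.Hom.comp_apply]
  exact congrArg g' (f'.fiberι_asFiber x')

theorem isCMAt_baseChange_iff {f : X ⟶ Y} (hN : ∀ y : Y, IsLocallyNoetherian (f.fiber y))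
    {f' : X' ⟶ Y'} {g' : X' ⟶ X} {g : Y' ⟶ Y} [LocallyOfFiniteType g] (hc : IsPullback g' f' f g) (x' : X') :
    LocCoh.IsCohenMacaulayLocalRing (FibQuot f' x') ↔
      LocCoh.IsCohenMacaulayLocalRing (FibQuot f (g' x')) := by
  let y' := f' x'
  let π := pullback.map f' (Y'.fromSpecResidueField y') f (Y.fromSpecResidueField (g y')) g'
    (Spec.map (g.residueFieldMap y')) g hc.w.symm (by simp)
  have hπ := isPullback_fiberToSpecResidueField_of_isPullback hc y'
  haveI : IsLocallyNoetherian (pullback f (Y.fromSpecResidueField (g y'))) := hN (g y')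
  have h1 := cm_stalk_fieldExtension (g.residueFieldMap y').hom
    (GrothLib.Misc6.residueFieldMap_essFiniteType g y') hπ (f'.asFiber x')
  rw [← cm_fiber_stalk_iff f' y' (f'.asFiber x') x' (f'.fiberι_asFiber x')]
  refine h1.trans (cm_fiber_stalk_iff f (g y') _ (g' x') ?_)
  show (π ≫ pullback.fst f (Y.fromSpecResidueField (g y'))) (f'.asFiber x') = g' x'
  rw [pullback.lift_fst, Scheme.Hom.comp_apply]
  exact congrArg g' (f'.fiberι_asFiber x')

end GrothLib.CMMor6
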