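import Groth.Agent.Lib.CMMor6.Chart
import Groth.Agent.Lib.CMMor6.Algebra
import Groth.Agent.Lib.AffDom.FibreDim
import Groth.Agent.Lib.CurvePoints.Basic
import Groth.Agent.Lib.Ref1.Extend
import Groth.Agent.Lib.NoethTop.KrullDim

/-!
# Local dimension along a flat morphism of constant fibre dimension
-/

set_option autoImplicit false
set_option linter.style.haveILetI false

universe u

open CategoryTheory CategoryTheory.Limits AlgebraicGeometry IsLocalRing

namespace GrothLib.CMMor6

variable {X Y : Scheme.{u}}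

/-- The dimension of an open subscheme is the supremum of the dimensions of its local rings. -/
theorem topologicalKrullDim_opens_eq_iSup (W : X.Opens) :
    topologicalKrullDim (W : Set X) = ⨆ z : W, ringKrullDim (X.presheaf.stalk (z : X)) := by
  have h : ∀ z : W, ringKrullDim (X.presheaf.stalk (z : X)) =
      ringKrullDim ((W : Scheme.{u}).presheaf.stalk z) := fun z =>
    (ringKrullDim_eq_of_ringEquiv (W.stalkIso z).commRingCatIsoToRingEquiv).symm
  show topologicalKrullDim (W : Scheme.{u}) = _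
  rw [iSup_congr h, ← CurvePoints.krullDim_points_eq (W : Scheme.{u})]
  exact (Order.krullDim_eq_iSup_coheight (α := (W : Scheme.{u}))).trans
    (iSup_congr fun z => (ringKrullDim_stalk_eq_coheight (X := (W : Scheme.{u})) z).symm)

theorem ringKrullDim_stalk_eq_add (f : X ⟶ Y) [IsLocallyNoetherian X] [IsLocallyNoetherian Y] (x : X)
    (hfl : (f.stalkMap x).hom.Flat) :
    ringKrullDim (X.presheaf.stalk x) = ringKrullDim (Y.presheaf.stalk (f x)) +
      ringKrullDim ((f.fiber (f x)).presheaf.stalk (f.asFiber x)) := by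
  letI : Algebra (Y.presheaf.stalk (f x)) (X.presheaf.stalk x) := (f.stalkMap x).hom.toAlgebra
  haveI : IsLocalHom (algebraMap (Y.presheaf.stalk (f x)) (X.presheaf.stalk x)) :=
    inferInstanceAs (IsLocalHom (f.stalkMap x).hom)
  haveI : Module.Flat (Y.presheaf.stalk (f x)) (X.presheaf.stalk x) := hfl
  obtain ⟨e⟩ := nonempty_fibQuot_equiv f x
  rw [← ringKrullDim_eq_of_ringEquiv e]
  exact ringKrullDim_eq_add

theorem localDim_eq_add (f : X ⟶ Y) [IsLocallyNoetherian X] [IsLocallyNoetherian Y] [LocallyOfFiniteType f]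
    [Flat f] (r : ℕ) (U : X.Opens) (x : X) (hx : x ∈ U)
    (hr : ∀ y ∈ U, FlatMor.fibreDimAt f y = (r : WithBot ℕ∞)) :
    FlatMor.localDim X x = FlatMor.localDim Y (f x) + (r : WithBot ℕ∞) := by
  have hfib : ∀ y, LocallyOfFiniteType (f.fiberToSpecResidueField y) := fun y =>
    MorphismProperty.pullback_snd f _ inferInstance
  have hsplit : ∀ z : X, FlatMor.fibreDimAt f z = GrothLib.AffDom.ptDim (f.asFiber z) +
      ringKrullDim ((f.fiber (f z)).presheaf.stalk (f.asFiber z)) := fun z =>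
    haveI := hfib (f z)
    GrothLib.AffDom.localDim_eq (K := Y.residueField (f z)) (f.fiberToSpecResidueField (f z)) (f.asFiber z)
  refine le_antisymm ?_ ?_
  · obtain ⟨V, hyV, hV⟩ := GrothLib.NoethTop.exists_localDim_eq (f x)
    refine (GrothLib.NoethTop.localDim_le (U ⊓ f ⁻¹ᵁ ⟨V, V.2⟩ : X.Opens) ⟨hx, hyV⟩).trans ?_
    rw [← hV, topologicalKrullDim_opens_eq_iSup (U ⊓ f ⁻¹ᵁ ⟨V, V.2⟩ : X.Opens),
      show topologicalKrullDim (V : Set Y) = _ from topologicalKrullDim_opens_eq_iSup (⟨V, V.2⟩ : Y.Opens)]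
    refine iSup_le fun z => ?_
    rw [ringKrullDim_stalk_eq_add f z (Flat.stalkMap f _)]
    refine add_le_add (le_iSup_of_le ⟨f z, z.2.2⟩ le_rfl) ?_
    have := hsplit (z : X)
    rw [hr _ z.2.1] at this
    rw [this]
    exact le_add_of_nonneg_left (GrothLib.AffDom.ptDim_nonneg _)
  · obtain ⟨W, hxW, hW⟩ := GrothLib.NoethTop.exists_localDim_eq x
    let W' : X.Opens := U ⊓ ⟨W, W.2⟩
    let V : Y.Opens := ⟨f '' (W' : Set X), f.isOpenMap _ W'.2⟩
    have hyV : f x ∈ V := ⟨x, ⟨hx, hxW⟩, rfl⟩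
    rw [← hW]
    refine le_trans ?_ ((Topology.IsEmbedding.inclusion (s := (W' : Set X)) (t := (W : Set X))
      fun z hz => hz.2).isInducing.topologicalKrullDim_le)
    refine (add_le_add (GrothLib.NoethTop.localDim_le V hyV) le_rfl).trans ?_
    rw [topologicalKrullDim_opens_eq_iSup V, topologicalKrullDim_opens_eq_iSup W', add_comm]
    refine GrothLib.AffDom.add_iSup_le r fun v => ?_
    obtain ⟨z, hz, hzv⟩ := v.2
    haveI := hfib (f z)
    haveI : JacobsonSpace (f.fiber (f z)) := LocallyOfFiniteType.jacobsonSpace (f.fiberToSpecResidueField (f z))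
    obtain ⟨w, hw, hwc⟩ := nonempty_inter_closedPoints (Z := f.fiberι (f z) ⁻¹' (W' : Set X))
      ⟨f.asFiber z, show f.fiberι (f z) (f.asFiber z) ∈ (W' : Set X) by rw [f.fiberι_asFiber]; exact hz⟩
      (W'.2.preimage (f.fiberι (f z)).continuous).isLocallyClosed
    have hfw : f (f.fiberι (f z) w) = f z := (f.range_fiberι (f z)).le ⟨w, rfl⟩
    refine le_trans (le_of_eq ?_) (le_iSup_of_le ⟨f.fiberι (f z) w, hw⟩ le_rfl)
    rw [ringKrullDim_stalk_eq_add f _ (Flat.stalkMap f _), ← hzv]
    have key : ∀ (v : Y) (w' : f.fiber v), f.fiberι v w' = f.fiberι (f z) w → IsClosed ({w} : Set (f.fiber (f z))) →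
        v = f z → IsClosed ({w'} : Set (f.fiber v)) := by
      rintro v w' h1 h2 rfl
      exact (f.fiberι (f z)).isEmbedding.injective h1 ▸ h2
    have h2 := hsplit (f.fiberι (f z) w)
    rw [hr _ hw.1, GrothLib.AffDom.ptDim_closedPoint
      (key _ _ (f.fiberι_asFiber _) (mem_closedPoints_iff.1 hwc) hfw), zero_add] at h2
    rw [show ringKrullDim (Y.presheaf.stalk (f z)) =
      ringKrullDim (Y.presheaf.stalk (f (f.fiberι (f z) w))) from
      (congrArg (fun v => ringKrullDim (Y.presheaf.stalk v)) hfw).symm, add_comm, h2]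

end GrothLib.CMMor6
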