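import Groth.Agent.Lib.CMMor6.Open
import Groth.Agent.Lib.AlgSp.FibreDimBC
import Groth.Agent.Lib.FibreFlat.Fibrewise
import Groth.Agent.Lib.EtFibre.Basic
import Groth.Agent.Lib.FibreDimAt6.Smooth
import Groth.Agent.Lib.FibreDimAt6.GCI
import Mathlib.AlgebraicGeometry.AffineSpace

/-!
# Cohen–Macaulay morphisms and quasi-finite flat maps to affine space
-/

set_option autoImplicit false
set_option linter.style.haveILetI false

universe u

open CategoryTheory CategoryTheory.Limits AlgebraicGeometry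

namespace GrothLib.CMMor6

variable {X Y S : Scheme.{u}}

/-- The fibre dimension is unchanged by a flat locally quasi-finite morphism of the source. -/
theorem fibreDimAt_comp_flat_lqf (g : X ⟶ Y) (p : Y ⟶ S) [Flat g] [LocallyQuasiFinite g]
    [LocallyOfFiniteType g] [LocallyOfFiniteType p] (x : X) :
    FlatMor.fibreDimAt (g ≫ p) x = FlatMor.fibreDimAt p (g x) := by
  let s := p (g x)
  let m : (g ≫ p).fiber s ⟶ p.fiber s := MoreMor.fiberMap g p s
  haveI : Flat m := (GrothLib.FibreFlat.prop_fiberMap_iff (P := @Flat) g p s).2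
    (MorphismProperty.pullback_snd g _ ‹Flat g›)
  haveI : LocallyQuasiFinite m := (GrothLib.FibreFlat.prop_fiberMap_iff (P := @LocallyQuasiFinite) g p s).2
    (MorphismProperty.pullback_snd g _ ‹LocallyQuasiFinite g›)
  haveI : LocallyOfFiniteType m := (GrothLib.FibreFlat.prop_fiberMap_iff (P := @LocallyOfFiniteType) g p s).2
    (MorphismProperty.pullback_snd g _ ‹LocallyOfFiniteType g›)
  haveI : IsLocallyNoetherian (p.fiber s) := isLocallyNoetherian_fiber p s
  haveI : LocallyOfFinitePresentation m := inferInstance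
  have key := GrothLib.EtFibre.localDim_eq_of_isOpenMap (f := m) m.continuous m.isOpenMap
    (Flat.generalizingMap m) (GrothLib.EtFibre.eq_of_specializes_of_discrete m) ((g ≫ p).asFiber x)
  have hm : m ((g ≫ p).asFiber x) = p.asFiber (g x) := by
    apply (p.fiberι s).isEmbedding.injective
    rw [← Scheme.Hom.comp_apply, show m ≫ p.fiberι s = (g ≫ p).fiberι s ≫ g from pullback.lift_fst _ _ _,
      Scheme.Hom.comp_apply]
    exact (congrArg g ((g ≫ p).fiberι_asFiber x)).trans (p.fiberι_asFiber (g x)).symm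
  rw [hm] at key
  exact key.symm

section Affine

variable {V : S.Opens} (hV : IsAffineOpen V) (r : ℕ)

/-- The chart of affine space over an affine open of the base. -/
noncomputable def chart : Spec (CommRingCat.of (MvPolynomial (Fin r) Γ(S, V))) ⟶ 𝔸(ULift.{u} (Fin r); S) :=
  Spec.map (CommRingCat.ofHom
      (MvPolynomial.renameEquiv Γ(S, V) (Equiv.ulift.{u} (α := Fin r))).toRingEquiv.toRingHom) ≫
    (AffineSpace.SpecIso (ULift.{u} (Fin r)) Γ(S, V)).inv ≫ AffineSpace.map _ hV.fromSpec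

instance isOpenImmersion_chart : IsOpenImmersion (chart hV r) := by
  haveI : IsOpenImmersion (AffineSpace.map (ULift.{u} (Fin r)) hV.fromSpec) :=
    MorphismProperty.of_isPullback (P := @IsOpenImmersion) (AffineSpace.isPullback_map hV.fromSpec).flip
      inferInstance
  haveI : IsIso (CommRingCat.ofHom
      (MvPolynomial.renameEquiv Γ(S, V) (Equiv.ulift.{u} (α := Fin r))).toRingEquiv.toRingHom) :=
    inferInstanceAs (IsIso (MvPolynomial.renameEquiv Γ(S, V)
      (Equiv.ulift.{u} (α := Fin r))).toRingEquiv.toCommRingCatIso.hom)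
  rw [chart]
  infer_instance

theorem chart_over : chart hV r ≫ (𝔸(ULift.{u} (Fin r); S) ↘ S) =
    Spec.map (CommRingCat.ofHom MvPolynomial.C) ≫ hV.fromSpec := by
  rw [chart]
  simp only [Category.assoc, AffineSpace.map_over, AffineSpace.SpecIso_inv_over_assoc,
    ← Spec.map_comp_assoc, ← CommRingCat.ofHom_comp]
  congr 3
  refine RingHom.ext fun a => ?_
  simp

theorem mem_range_chart (p : 𝔸(ULift.{u} (Fin r); S)) (hp : (𝔸(ULift.{u} (Fin r); S) ↘ S) p ∈ V) :
    p ∈ Set.range (chart hV r) := by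
  obtain ⟨v, hv⟩ := hV.range_fromSpec.ge hp
  obtain ⟨z, hz, -⟩ := Scheme.Pullback.exists_preimage_pullback (f := 𝔸(ULift.{u} (Fin r); S) ↘ S)
    (g := hV.fromSpec) p v hv.symm
  let sq := AffineSpace.isPullback_map (n := ULift.{u} (Fin r)) hV.fromSpec
  haveI : IsIso (CommRingCat.ofHom
      (MvPolynomial.renameEquiv Γ(S, V) (Equiv.ulift.{u} (α := Fin r))).toRingEquiv.toRingHom) :=
    inferInstanceAs (IsIso (MvPolynomial.renameEquiv Γ(S, V)
      (Equiv.ulift.{u} (α := Fin r))).toRingEquiv.toCommRingCatIso.hom)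
  let e := Spec.map (CommRingCat.ofHom
      (MvPolynomial.renameEquiv Γ(S, V) (Equiv.ulift.{u} (α := Fin r))).toRingEquiv.toRingHom) ≫
    (AffineSpace.SpecIso (ULift.{u} (Fin r)) Γ(S, V)).inv
  refine ⟨inv e (sq.isoPullback.inv z), ?_⟩
  rw [← Scheme.Hom.comp_apply, ← Scheme.Hom.comp_apply,
    show sq.isoPullback.inv ≫ inv e ≫ chart hV r = pullback.fst _ _ by
      rw [chart, ← Category.assoc (Spec.map _), IsIso.inv_hom_id_assoc, IsPullback.isoPullback_inv_fst]]
  exact hz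

end Affine

theorem isCMAt_affineSpace (r : ℕ) (p : 𝔸(ULift.{u} (Fin r); S)) :
    MoreMor.IsCMAt (𝔸(ULift.{u} (Fin r); S) ↘ S) p := by
  obtain ⟨_, ⟨V, hV, rfl⟩, hpV, -⟩ := S.isBasis_affineOpens.exists_subset_of_mem_open
    (Set.mem_univ ((𝔸(ULift.{u} (Fin r); S) ↘ S) p)) isOpen_univ
  obtain ⟨z, rfl⟩ := mem_range_chart hV r p hpV
  haveI : LocallyOfFiniteType (Spec.map (CommRingCat.ofHom (MvPolynomial.C (σ := Fin r) (R := Γ(S, V))))) :=
    (HasRingHomProperty.Spec_iff (P := @LocallyOfFiniteType)).2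
      (RingHom.finiteType_algebraMap.2 (inferInstance : Algebra.FiniteType Γ(S, V) (MvPolynomial (Fin r) Γ(S, V))))
  rw [← isCMAt_openImmersion_comp_iff, chart_over]
  exact isCMAt_comp _ hV.fromSpec _ (isLocallyNoetherian_fiber _ _)
    (isCMAt_polynomial _ _ _) (isCMAt_of_openImmersion _ _)

theorem fibreDimAt_affineSpace (r : ℕ) (p : 𝔸(ULift.{u} (Fin r); S)) :
    FlatMor.fibreDimAt (𝔸(ULift.{u} (Fin r); S) ↘ S) p = (r : WithBot ℕ∞) := by
  obtain ⟨_, ⟨V, hV, rfl⟩, hpV, -⟩ := S.isBasis_affineOpens.exists_subset_of_mem_open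
    (Set.mem_univ ((𝔸(ULift.{u} (Fin r); S) ↘ S) p)) isOpen_univ
  obtain ⟨z, rfl⟩ := mem_range_chart hV r p hpV
  have hsq : IsPullback (chart hV r) (Spec.map (CommRingCat.ofHom MvPolynomial.C))
      (𝔸(ULift.{u} (Fin r); S) ↘ S) hV.fromSpec := by
    haveI : IsIso (CommRingCat.ofHom
        (MvPolynomial.renameEquiv Γ(S, V) (Equiv.ulift.{u} (α := Fin r))).toRingEquiv.toRingHom) :=
      inferInstanceAs (IsIso (MvPolynomial.renameEquiv Γ(S, V)
        (Equiv.ulift.{u} (α := Fin r))).toRingEquiv.toCommRingCatIso.hom)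
    refine (AffineSpace.isPullback_map (n := ULift.{u} (Fin r)) hV.fromSpec).of_iso
      (asIso (Spec.map (CommRingCat.ofHom
        (MvPolynomial.renameEquiv Γ(S, V) (Equiv.ulift.{u} (α := Fin r))).toRingEquiv.toRingHom) ≫
        (AffineSpace.SpecIso (ULift.{u} (Fin r)) Γ(S, V)).inv)).symm (Iso.refl _) (Iso.refl _) (Iso.refl _)
      ?_ ?_ (by simp) (by simp)
    · simp [chart]
    · simp only [Iso.symm_hom, asIso_inv, Iso.refl_hom, Category.comp_id]
      rw [IsIso.eq_inv_comp]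
      simp only [Category.assoc, AffineSpace.SpecIso_inv_over, ← Spec.map_comp, ← CommRingCat.ofHom_comp]
      congr 2
      refine RingHom.ext fun a => ?_
      simp
  rw [← GrothLib.AlgSp.fibreDimAt_of_isPullback hsq z]
  exact GrothLib.FibreDimAt6.fibreDimAt_specMap_eq (A := MvPolynomial (Fin r) Γ(S, V)) z r
    (GrothLib.FibreDimAt6.dim_fiber_mvPolynomial r _).le
    (fun e he => (GrothLib.FibreDimAt6.dim_fiber_away_eq z e he).ge)

/-- A Cohen–Macaulay point has a neighbourhood with a flat quasi-finite map to affine space over the base. -/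
theorem exists_chart (f : X ⟶ S) [LocallyOfFinitePresentation f] (x : X) (h : MoreMor.IsCMAt f x) :
    ∃ (r : ℕ) (U : X.Opens) (g : (U : Scheme.{u}) ⟶ 𝔸(ULift.{u} (Fin r); S)),
      x ∈ U ∧ g ≫ (𝔸(ULift.{u} (Fin r); S) ↘ S) = U.ι ≫ f ∧ Flat g ∧ LocallyQuasiFinite g ∧
        ∀ y ∈ U, FlatMor.fibreDimAt f y = (r : WithBot ℕ∞) := by
  obtain ⟨V, hV, r, U, g, hxU, hg, _, _⟩ := exists_slice f x h
  let g' := g ≫ chart hV r
  have hg' : g' ≫ (𝔸(ULift.{u} (Fin r); S) ↘ S) = U.ι ≫ f := by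
    rw [Category.assoc, chart_over, hg]
  haveI : LocallyOfFiniteType g' :=
    haveI : LocallyOfFiniteType (g' ≫ (𝔸(ULift.{u} (Fin r); S) ↘ S)) := hg' ▸ inferInstance
    locallyOfFiniteType_of_comp g' (𝔸(ULift.{u} (Fin r); S) ↘ S)
  haveI : Flat g' := MorphismProperty.comp_mem _ _ _ ‹Flat g› inferInstance
  haveI : LocallyQuasiFinite g' := MorphismProperty.comp_mem _ _ _ ‹LocallyQuasiFinite g› inferInstance
  refine ⟨r, U, g', hxU, hg', inferInstance, inferInstance, fun y hy => ?_⟩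
  rw [show y = U.ι ⟨y, hy⟩ from rfl, ← fibreDimAt_comp_flat_lqf U.ι f, ← hg',
    fibreDimAt_comp_flat_lqf g', fibreDimAt_affineSpace]

theorem isCMAt_of_chart (f : X ⟶ S) [LocallyOfFiniteType f] {r : ℕ} {U : X.Opens} {x : X} (hx : x ∈ U)
    (g : (U : Scheme.{u}) ⟶ 𝔸(ULift.{u} (Fin r); S)) (hg : g ≫ (𝔸(ULift.{u} (Fin r); S) ↘ S) = U.ι ≫ f)
    [LocallyQuasiFinite g] (hfl : (g.stalkMap ⟨x, hx⟩).hom.Flat) : MoreMor.IsCMAt f x := by
  haveI : LocallyOfFiniteType g :=
    haveI : LocallyOfFiniteType (g ≫ (𝔸(ULift.{u} (Fin r); S) ↘ S)) := hg ▸ inferInstance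
    locallyOfFiniteType_of_comp g (𝔸(ULift.{u} (Fin r); S) ↘ S)
  refine (isCMAt_openImmersion_comp_iff U.ι f ⟨x, hx⟩).1 ?_
  rw [← hg]
  exact isCMAt_comp g _ _ (isLocallyNoetherian_fiber _ _)
    (isCMAt_of_quasiFiniteAt g _ hfl (g.quasiFiniteAt _)) (isCMAt_affineSpace r _)

theorem isLocallyConstant_fibreDimAt (f : X ⟶ S) [LocallyOfFinitePresentation f]
    (hcm : ∀ x : X, MoreMor.IsCMAt f x) : IsLocallyConstant (fun x : X => FlatMor.fibreDimAt f x) :=
  (IsLocallyConstant.iff_exists_open _).2 fun x => by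
    obtain ⟨r, U, g, hxU, -, -, -, hd⟩ := exists_chart f x (hcm x)
    exact ⟨U, U.2, hxU, fun y hy => (hd y hy).trans (hd x hxU).symm⟩

end GrothLib.CMMor6
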