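import Groth.Agent.Lib.CMMor6.Mor
import Groth.Agent.Lib.CMMor6.BaseChange
import Groth.Agent.Lib.CurveLocus.CM
import Groth.Agent.Lib.FacDiv.Principal
import Groth.Agent.Lib.FibreFlat.Slice
import Groth.Agent.Lib.FibreFlat.OpenScheme
import Groth.Agent.S9152
import Groth.Agent.Lib.GrAB27.Basic
import Mathlib.RingTheory.KrullDimension.Regular

/-!
# The Cohen–Macaulay locus of a flat morphism is open
-/

set_option autoImplicit false
set_option linter.style.haveILetI false

universe u

open CategoryTheory CategoryTheory.Limits AlgebraicGeometry IsLocalRing TensorProduct RingTheory.Sequence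

namespace GrothLib.CMMor6

variable {X Y S : Scheme.{u}}

theorem isLocallyNoetherian_fiber (f : X ⟶ Y) [LocallyOfFiniteType f] (y : Y) :
    IsLocallyNoetherian (f.fiber y) :=
  haveI : LocallyOfFiniteType (f.fiberToSpecResidueField y) := MorphismProperty.pullback_snd f _ inferInstance
  LocallyOfFiniteType.isLocallyNoetherian (f.fiberToSpecResidueField y)

/-- A point without generisations has a zero dimensional local ring. -/
theorem ringKrullDim_stalk_le_zero {W : Scheme.{u}} (w : W) (h : ∀ z : W, z ⤳ w → z = w) :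
    ringKrullDim (W.presheaf.stalk w) ≤ 0 := by
  haveI : Subsingleton (PrimeSpectrum (W.presheaf.stalk w)) := ⟨fun a b => by
    apply (W.fromSpecStalk w).isEmbedding.injective
    have key : ∀ c, W.fromSpecStalk w c = w := fun c =>
      h _ ((W.range_fromSpecStalk (x := w)).le ⟨c, rfl⟩)
    exact (key a).trans (key b).symm⟩
  exact Order.krullDim_nonpos_of_subsingleton

theorem cm_stalk_of_no_generisation {W : Scheme.{u}} [IsLocallyNoetherian W] (w : W)
    (h : ∀ z : W, z ⤳ w → z = w) : LocCoh.IsCohenMacaulayLocalRing (W.presheaf.stalk w) :=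
  have h0 := ringKrullDim_stalk_le_zero w h
  (GrothLib.CurveLocus.isCM_iff_of_dim_le_one (h0.trans zero_le_one)).2 (Or.inl h0)

/-- A flat morphism is Cohen–Macaulay at the points where it is quasi-finite. -/
theorem isCMAt_of_quasiFiniteAt (f : X ⟶ Y) [LocallyOfFiniteType f] (x : X)
    (hfl : (f.stalkMap x).hom.Flat) (hqf : f.QuasiFiniteAt x) : MoreMor.IsCMAt f x := by
  rw [isCMAt_iff]
  refine ⟨hfl, ?_⟩
  haveI := isLocallyNoetherian_fiber f (f x)
  rw [← cm_fiber_stalk_iff f (f x) (f.asFiber x) x (f.fiberι_asFiber x)]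
  refine cm_stalk_of_no_generisation _ fun z hz => ?_
  exact hz.mem_open ((Scheme.Hom.quasiFiniteAt_iff_isOpen_singleton_asFiber).1 hqf) rfl

theorem isCMAt_of_openImmersion (f : X ⟶ Y) [IsOpenImmersion f] (x : X) : MoreMor.IsCMAt f x :=
  isCMAt_of_quasiFiniteAt f x (Flat.stalkMap f x) (f.quasiFiniteAt x)

theorem isCMAt_openImmersion_comp_iff (i : X ⟶ Y) [IsOpenImmersion i] (g : Y ⟶ S) [LocallyOfFiniteType g]
    (x : X) : MoreMor.IsCMAt (i ≫ g) x ↔ MoreMor.IsCMAt g (i x) :=
  ⟨fun h => (isCMAt_of_comp i g x (isLocallyNoetherian_fiber g _) h (Flat.stalkMap i x)).2,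
    fun h => isCMAt_comp i g x (isLocallyNoetherian_fiber (i ≫ g) _) (isCMAt_of_openImmersion i x) h⟩

/-- Affine space is Cohen–Macaulay over any base. -/
theorem isCMAt_polynomial (A : CommRingCat.{u}) (n : ℕ) (q : Spec (CommRingCat.of (MvPolynomial (Fin n) A))) :
    MoreMor.IsCMAt (Spec.map (CommRingCat.ofHom (MvPolynomial.C (σ := Fin n) (R := A)))) q := by
  set π := Spec.map (CommRingCat.ofHom (MvPolynomial.C (σ := Fin n) (R := A)))
  rw [isCMAt_iff]
  haveI : Flat π := Flat.SpecMap_iff.mpr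
    (RingHom.flat_algebraMap_iff.mpr (inferInstance : Module.Flat A (MvPolynomial (Fin n) A)))
  refine ⟨Flat.stalkMap π q, ?_⟩
  rw [← cm_fiber_stalk_iff π (π q) (π.asFiber q) q (π.fiberι_asFiber q)]
  let s := π q
  let L := (Spec A).residueField s
  let ψ : A ⟶ L := Spec.preimage ((Spec A).fromSpecResidueField s)
  letI : Algebra A L := ψ.hom.toAlgebra
  let P := MvPolynomial (Fin n) A
  have hsq : IsPullback (π.fiberι s) (π.fiberToSpecResidueField s)
      (Spec.map (CommRingCat.ofHom (algebraMap A P))) (Spec.map ψ) := by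
    rw [Spec.map_preimage]
    exact IsPullback.of_hasPullback π ((Spec A).fromSpecResidueField s)
  let e : P ⊗[A] L ≃+* MvPolynomial (Fin n) L :=
    (Algebra.TensorProduct.comm A P L).toRingEquiv.trans
      (MvPolynomial.algebraTensorAlgEquiv (σ := Fin n) A L).toRingEquiv
  let E : π.fiber s ≅ Spec (CommRingCat.of (MvPolynomial (Fin n) L)) :=
    hsq.isoPullback ≪≫ pullbackSpecIso A P L ≪≫
      Scheme.Spec.mapIso e.symm.toCommRingCatIso.op
  haveI : LocCoh.IsCohenMacaulayRing (CommRingCat.of (MvPolynomial (Fin n) L)) :=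
    CatCM.isCohenMacaulayRing_of_isRegularRing _
  haveI := cm_stalk_spec (CommRingCat.of (MvPolynomial (Fin n) L)) (E.hom (π.asFiber q))
  exact GrothLib.HB26.isCohenMacaulayLocalRing_of_ringEquiv
    (asIso (E.hom.stalkMap (π.asFiber q))).commRingCatIsoToRingEquiv

/-- The Cohen–Macaulay locus of a scheme locally of finite type over a field is open. -/
theorem isOpen_cm_field {K : Type u} [Field K] {W : Scheme.{u}} (h : W ⟶ Spec (CommRingCat.of K))
    [LocallyOfFiniteType h] : IsOpen {w : W | LocCoh.IsCohenMacaulayLocalRing (W.presheaf.stalk w)} := by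
  refine isOpen_iff_forall_mem_open.2 fun w hw => ?_
  obtain ⟨_, ⟨U, hU, rfl⟩, hwU, -⟩ :=
    W.isBasis_affineOpens.exists_subset_of_mem_open (Set.mem_univ w) isOpen_univ
  have hU : IsAffineOpen U := hU
  obtain ⟨ψ, hψ, -⟩ := GrothLib.Dim.exists_finiteType_specMap h hU
  letI : Algebra K Γ(W, U) := ψ.hom.toAlgebra
  haveI : Algebra.FiniteType K Γ(W, U) := hψ
  have hop := Groth.Agent.S9152.result K Γ(W, U)
  have key : ∀ q : PrimeSpectrum Γ(W, U), LocCoh.IsCohenMacaulayLocalRing (W.presheaf.stalk (hU.fromSpec q)) ↔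
      LocCoh.IsCohenMacaulayLocalRing (Localization.AtPrime q.asIdeal) := by
    intro q
    have hmem : hU.fromSpec q ∈ U := hU.range_fromSpec.le ⟨q, rfl⟩
    letI : Algebra Γ(W, U) (W.presheaf.stalk (hU.fromSpec q)) := W.presheaf.algebra_section_stalk ⟨_, hmem⟩
    haveI : IsLocalization.AtPrime (W.presheaf.stalk (hU.fromSpec q)) q.asIdeal := hU.isLocalization_stalk' q hmem
    let e := (IsLocalization.algEquiv q.asIdeal.primeCompl (Localization.AtPrime q.asIdeal)
      (W.presheaf.stalk (hU.fromSpec q))).toRingEquiv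
    constructor
    · intro h'; haveI := h'; exact GrothLib.HB26.isCohenMacaulayLocalRing_of_ringEquiv e.symm
    · intro h'; haveI := h'; exact GrothLib.HB26.isCohenMacaulayLocalRing_of_ringEquiv e
  refine ⟨hU.fromSpec '' {q | LocCoh.IsCohenMacaulayLocalRing (Localization.AtPrime q.asIdeal)}, ?_,
    hU.fromSpec.isOpenEmbedding.isOpenMap _ hop, ?_⟩
  · rintro _ ⟨q, hq, rfl⟩
    exact (key q).2 hq
  · obtain ⟨q, rfl⟩ := hU.range_fromSpec.ge hwU
    exact ⟨q, (key q).1 hw, rfl⟩

/-- A regular sequence of maximal length on a Cohen–Macaulay local ring. -/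
theorem exists_regular_of_cm (R : Type u) [CommRing R] [IsLocalRing R] [IsNoetherianRing R]
    (h : LocCoh.IsCohenMacaulayLocalRing R) :
    ∃ rs : List R, IsRegular R rs ∧ (∀ r ∈ rs, r ∈ maximalIdeal R) ∧
      ringKrullDim (R ⧸ Ideal.ofList rs) ≤ 0 := by
  have hd := (cm_iff R).1 h
  obtain ⟨n, hn⟩ : ∃ n : ℕ, ringKrullDim R = n := by
    obtain ⟨D, hD⟩ := WithBot.ne_bot_iff_exists.1 (ringKrullDim_ne_bot (R := R))
    have : D ≠ ⊤ := fun e => ringKrullDim_ne_top (R := R) (by rw [← hD, e]; rfl)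
    lift D to ℕ using this
    exact ⟨D, hD.symm⟩
  have hne : maximalIdeal R • (⊤ : Submodule R R) ≠ ⊤ := by
    rw [smul_eq_mul, Ideal.mul_top]; exact (maximalIdeal.isMaximal R).ne_top
  have hdep : LocCoh.depth R R = (n : ℕ∞) := by
    rw [hn] at hd; exact_mod_cast hd.symm
  obtain ⟨rs, hlen, hmem, hreg⟩ := (GrothLib.Depth.le_idealDepth_iff_exists _ hne n).1 hdep.ge
  have hreg' : IsRegular R rs :=
    (IsLocalRing.isRegular_iff_isWeaklyRegular_of_subset_maximalIdeal hmem).2 hreg
  refine ⟨rs, hreg', hmem, ?_⟩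
  have := ringKrullDim_add_length_eq_ringKrullDim_of_isRegular rs hreg'
  rw [hn, hlen] at this
  by_contra hlt
  obtain ⟨D, hD⟩ : ∃ D : ℕ∞, ringKrullDim (R ⧸ Ideal.ofList rs) = D :=
    WithBot.ne_bot_iff_exists.1 (fun e => hlt (by rw [e]; exact bot_le)) |>.imp fun _ h => h.symm
  rw [hD] at this hlt
  have h' : D + (n : ℕ∞) = 0 + (n : ℕ∞) := by rw [zero_add]; exact_mod_cast this
  exact hlt (by rw [(ENat.add_left_injective_of_ne_top (ENat.coe_ne_top n)) h']; rfl)

/-- A flat morphism Cohen–Macaulay at a point closed in its fibre is Cohen–Macaulay nearby. -/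
theorem exists_slice_of_closed (f : X ⟶ S) [LocallyOfFinitePresentation f] (x : X)
    (hcl : ∀ z : X, x ⤳ z → f z = f x → z = x) (h : MoreMor.IsCMAt f x) :
    ∃ (V : S.Opens) (hV : IsAffineOpen V) (r : ℕ) (U : X.Opens)
      (g : (U : Scheme.{u}) ⟶ Spec (CommRingCat.of (MvPolynomial (Fin r) Γ(S, V)))),
      x ∈ U ∧ g ≫ Spec.map (CommRingCat.ofHom MvPolynomial.C) ≫ hV.fromSpec = U.ι ≫ f ∧
        Flat g ∧ LocallyQuasiFinite g ∧
        ∀ (hx : x ∈ U) (i : Fin r), MvPolynomial.X i ∈ (g ⟨x, hx⟩).asIdeal := by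
  haveI := isLocallyNoetherian_fiber f (f x)
  obtain ⟨hfl, hCM⟩ := (isCMAt_iff f x).1 h
  haveI : IsNoetherianRing (FibQuot f x) := isNoetherianRing_fibQuot f x
  set K := (maximalIdeal (S.presheaf.stalk (f x))).map (f.stalkMap x).hom with hK
  haveI := hCM
  haveI : IsLocalRing (FibQuot f x) := hCM.toIsLocalRing
  obtain ⟨rs, hreg, -, hdim⟩ := exists_regular_of_cm (FibQuot f x) hCM
  choose l hl using fun i : Fin rs.length => Ideal.Quotient.mk_surjective (I := K) (rs.get i)
  have hmap : (List.ofFn l).map (Ideal.Quotient.mk K) = rs := by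
    rw [List.map_ofFn]
    conv_rhs => rw [← List.ofFn_get rs]
    congr 1
    funext i
    exact hl i
  obtain ⟨V, U, hU, hx, hVU, a, hV, ha, hap, hflat⟩ :=
    GrothLib.FibreFlat.exists_slice f x hfl l (by rw [hmap]; exact hreg)
  letI := (f.appLE V U hVU).hom.toAlgebra
  let P := CommRingCat.of (MvPolynomial (Fin rs.length) Γ(S, V))
  let φ : P ⟶ Γ(X, U) := CommRingCat.ofHom (MvPolynomial.aeval (R := Γ(S, V)) a).toRingHom
  let π : Spec P ⟶ Spec Γ(S, V) := Spec.map (CommRingCat.ofHom MvPolynomial.C)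
  let g : (U : Scheme.{u}) ⟶ Spec P := hU.isoSpec.hom ≫ Spec.map φ
  have hφ : CommRingCat.ofHom MvPolynomial.C ≫ φ = f.appLE V U hVU := by
    ext r
    exact MvPolynomial.aeval_C (R := Γ(S, V)) a r
  have hcomp : g ≫ π ≫ hV.fromSpec = U.ι ≫ f := by
    simp only [g, π, Category.assoc]
    rw [← Spec.map_comp_assoc, hφ, IsAffineOpen.SpecMap_appLE_fromSpec f hV hU hVU]
    rw [← Category.assoc, IsAffineOpen.isoSpec_hom_fromSpec]
  haveI : Flat (Spec.map φ) := Flat.SpecMap_iff.mpr hflat
  haveI : Flat g := MorphismProperty.comp_mem _ _ _ inferInstance inferInstance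
  haveI : LocallyOfFiniteType g :=
    haveI : LocallyOfFiniteType (g ≫ π ≫ hV.fromSpec) := hcomp ▸ inferInstance
    locallyOfFiniteType_of_comp g (π ≫ hV.fromSpec)
  haveI : LocallyOfFiniteType π := (HasRingHomProperty.Spec_iff (P := @LocallyOfFiniteType)).2
    (RingHom.finiteType_algebraMap.2 (inferInstance : Algebra.FiniteType Γ(S, V) (MvPolynomial (Fin rs.length) Γ(S, V))))
  let x' : (U : Scheme.{u}) := ⟨x, hx⟩
  have hgX : ∀ (z : (U : Scheme.{u})) (i : Fin rs.length), a i ∈ (hU.primeIdealOf z).asIdeal ↔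
      (MvPolynomial.X i : P) ∈ (g z).asIdeal := by
    intro z i
    show _ ↔ φ.hom (MvPolynomial.X i) ∈ (hU.isoSpec.hom z).asIdeal
    rw [show φ.hom (MvPolynomial.X i) = a i from MvPolynomial.aeval_X a i]
    rfl
  -- the generisations of `x` in its fibre over affine space
  have hgen : ∀ z : (U : Scheme.{u}), z ⤳ x' → g z = g x' → z = x' := by
    intro z hz hgz
    have hzx : U.ι z ⤳ x := hz.map U.ι.continuous
    have hfz : f (U.ι z) = f x := by
      have e := congrArg (fun k : (U : Scheme.{u}) ⟶ S => k z) hcomp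
      have e' := congrArg (fun k : (U : Scheme.{u}) ⟶ S => k x') hcomp
      simp only [Scheme.Hom.comp_apply] at e e'
      rw [← e, hgz, e']
      rfl
    obtain ⟨P', hP'⟩ := (X.range_fromSpecStalk (x := x)).ge hzx
    have hs : (f.stalkMap x).hom '' (maximalIdeal (S.presheaf.stalk (f x)) : Set _) ⊆ P'.asIdeal := by
      have e : S.fromSpecStalk (f x) (Spec.map (f.stalkMap x) P') =
          S.fromSpecStalk (f x) (closedPoint (S.presheaf.stalk (f x))) := by
        rw [← Scheme.Hom.comp_apply, Scheme.SpecMap_stalkMap_fromSpecStalk, Scheme.Hom.comp_apply, hP',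
          Scheme.fromSpecStalk_closedPoint, hfz]
      have e2 := congrArg PrimeSpectrum.asIdeal ((S.fromSpecStalk (f x)).isEmbedding.injective e)
      rintro _ ⟨r, hr, rfl⟩
      exact (e2 ▸ hr : r ∈ (Spec.map (f.stalkMap x) P').asIdeal)
    have ha' : ∀ i, l i ∈ P'.asIdeal := by
      intro i
      have hzU : hU.primeIdealOf z = Spec.map (X.presheaf.germ U x hx) P' := by
        apply hU.fromSpec.isEmbedding.injective
        rw [hU.fromSpec_primeIdealOf, ← Scheme.Hom.comp_apply]
        refine hP'.symm.trans ?_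
        rw [← hU.fromSpecStalk_eq_fromSpecStalk hx]
        rfl
      have hm := (hgX z i).2 (hgz ▸ (hgX x' i).1 (hap i))
      rw [hzU] at hm
      rw [← ha i]
      exact hm
    have hKP : K ≤ P'.asIdeal := Ideal.map_le_iff_le_comap.2 fun r hr => hs ⟨r, hr, rfl⟩
    let J := (P'.asIdeal).map (Ideal.Quotient.mk K)
    haveI : J.IsPrime := Ideal.isPrime_map_quotientMk_of_isPrime hKP
    have hJ : Ideal.ofList rs ≤ J := by
      rw [← hmap, Ideal.ofList, Ideal.span_le]
      intro r hr
      obtain ⟨b, hb, rfl⟩ := List.mem_map.1 hr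
      obtain ⟨i, rfl⟩ := List.mem_ofFn.1 hb
      exact Ideal.mem_map_of_mem _ (ha' i)
    have hmax : J = maximalIdeal (FibQuot f x) := by
      have hprime := Ideal.isPrime_map_quotientMk_of_isPrime (p := J) hJ
      haveI : Ring.KrullDimLE 0 (FibQuot f x ⧸ Ideal.ofList rs) := Ring.krullDimLE_iff.2 (by exact_mod_cast hdim)
      have hJmax := Ideal.IsPrime.isMaximal' (I := J.map (Ideal.Quotient.mk (Ideal.ofList rs))) hprime
      have := Ideal.comap_isMaximal_of_surjective (Ideal.Quotient.mk (Ideal.ofList rs))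
        Ideal.Quotient.mk_surjective (K := J.map (Ideal.Quotient.mk (Ideal.ofList rs)))
      rw [Ideal.comap_map_of_surjective _ Ideal.Quotient.mk_surjective, ← RingHom.ker_eq_comap_bot,
        Ideal.mk_ker, sup_eq_left.mpr hJ] at this
      exact IsLocalRing.eq_maximalIdeal this
    have hP : P' = closedPoint (X.presheaf.stalk x) := by
      refine PrimeSpectrum.ext (le_antisymm (le_maximalIdeal P'.2.ne_top) ?_)
      intro r hr
      have hr' : Ideal.Quotient.mk K r ∈ J := by
        rw [hmax, mem_maximalIdeal, mem_nonunits_iff]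
        intro hu
        have hloc : IsLocalHom (Ideal.Quotient.mk K) := IsLocalHom.of_surjective _ Ideal.Quotient.mk_surjective
        exact (mem_maximalIdeal r).1 hr (isUnit_of_map_unit (Ideal.Quotient.mk K) r hu)
      rw [Ideal.mem_quotient_iff_mem hKP] at hr'
      exact hr'
    apply U.ι.isEmbedding.injective
    rw [← hP', hP, Scheme.fromSpecStalk_closedPoint]
    rfl
  have hspec : ∀ z : (U : Scheme.{u}), x' ⤳ z → g z = g x' → z = x' := by
    intro z hz hgz
    apply U.ι.isEmbedding.injective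
    refine hcl _ (hz.map U.ι.continuous) ?_
    have e := congrArg (fun k : (U : Scheme.{u}) ⟶ S => k z) hcomp
    have e' := congrArg (fun k : (U : Scheme.{u}) ⟶ S => k x') hcomp
    simp only [Scheme.Hom.comp_apply] at e e'
    rw [← e, hgz, e']
    rfl
  have hqf : g.QuasiFiniteAt x' := by
    rw [Scheme.Hom.quasiFiniteAt_iff_isOpen_singleton_asFiber]
    haveI := isLocallyNoetherian_fiber g (g x')
    have himg : ∀ z : g.fiber (g x'), g (g.fiberι (g x') z) = g x' := fun z =>
      (g.range_fiberι (g x')).le ⟨z, rfl⟩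
    refine GrothLib.FacDiv.isOpen_singleton_of_isolated (fun z hz => ?_) fun z hz => ?_
    · apply (g.fiberι (g x')).isEmbedding.injective
      rw [g.fiberι_asFiber]
      exact hgen _ ((hz.map (g.fiberι (g x')).continuous).trans (specializes_of_eq (g.fiberι_asFiber x'))) (himg z)
    · apply (g.fiberι (g x')).isEmbedding.injective
      rw [g.fiberι_asFiber]
      exact hspec _ ((specializes_of_eq (g.fiberι_asFiber x').symm).trans (hz.map (g.fiberι (g x')).continuous)) (himg z)
  let U' : X.Opens := U.ι ''ᵁ g.quasiFiniteLocus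
  let i : (U' : Scheme.{u}) ⟶ U := IsOpenImmersion.lift U.ι U'.ι (by
    rw [Scheme.Opens.range_ι, Scheme.Opens.range_ι]
    exact (U.ι.image_le_opensRange _).trans_eq U.opensRange_ι)
  have hi : i ≫ U.ι = U'.ι := IsOpenImmersion.lift_fac _ _ _
  haveI : IsOpenImmersion (i ≫ U.ι) := hi ▸ inferInstance
  haveI : IsOpenImmersion i := IsOpenImmersion.of_comp i U.ι
  refine ⟨V, hV, rs.length, U', i ≫ g, ⟨x', hqf, rfl⟩, ?_, inferInstance, ?_, fun hx₁ j => ?_⟩
  · rw [Category.assoc, hcomp, ← Category.assoc, hi]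
  · rw [← Scheme.Hom.quasiFiniteLocus_eq_top_iff, Scheme.Hom.quasiFiniteLocus_comp]
    refine top_le_iff.1 fun z _ => ?_
    show i z ∈ g.quasiFiniteLocus
    obtain ⟨y, hy, hyz⟩ := (z : (U' : Scheme.{u})).2
    have : i z = y := U.ι.isEmbedding.injective (by rw [← Scheme.Hom.comp_apply, hi]; exact hyz.symm)
    rwa [this]
  · have e : i ⟨x, hx₁⟩ = x' := U.ι.isEmbedding.injective (by rw [← Scheme.Hom.comp_apply, hi]; rfl)
    rw [Scheme.Hom.comp_apply, e]
    exact (hgX x' j).1 (hap j)

/-- A morphism with a flat quasi-finite map to a polynomial ring over an affine open is Cohen–Macaulay. -/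
theorem isCMAt_of_slice {V : S.Opens} (hV : IsAffineOpen V) {r : ℕ} {U : X.Opens}
    (f : X ⟶ S) [LocallyOfFiniteType f]
    (g : (U : Scheme.{u}) ⟶ Spec (CommRingCat.of (MvPolynomial (Fin r) Γ(S, V))))
    (hg : g ≫ Spec.map (CommRingCat.ofHom MvPolynomial.C) ≫ hV.fromSpec = U.ι ≫ f)
    [Flat g] [LocallyQuasiFinite g] (y : X) (hy : y ∈ U) : MoreMor.IsCMAt f y := by
  let π := Spec.map (CommRingCat.ofHom (MvPolynomial.C (σ := Fin r) (R := Γ(S, V))))
  haveI : LocallyOfFiniteType π := (HasRingHomProperty.Spec_iff (P := @LocallyOfFiniteType)).2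
    (RingHom.finiteType_algebraMap.2 (inferInstance : Algebra.FiniteType Γ(S, V) (MvPolynomial (Fin r) Γ(S, V))))
  haveI : LocallyOfFiniteType g :=
    haveI : LocallyOfFiniteType (g ≫ π ≫ hV.fromSpec) := hg ▸ inferInstance
    locallyOfFiniteType_of_comp g (π ≫ hV.fromSpec)
  refine (isCMAt_openImmersion_comp_iff U.ι f ⟨y, hy⟩).1 ?_
  rw [← hg]
  refine isCMAt_comp g (π ≫ hV.fromSpec) _ (isLocallyNoetherian_fiber _ _)
    (isCMAt_of_quasiFiniteAt g _ (Flat.stalkMap g _) (g.quasiFiniteAt _)) ?_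
  exact isCMAt_comp π hV.fromSpec _ (isLocallyNoetherian_fiber _ _)
    (isCMAt_polynomial _ _ _) (isCMAt_of_openImmersion _ _)

/-- A morphism flat and Cohen–Macaulay at a point has a chart at a specialisation of that point. -/
theorem exists_slice (f : X ⟶ S) [LocallyOfFinitePresentation f] (x : X) (h : MoreMor.IsCMAt f x) :
    ∃ (V : S.Opens) (hV : IsAffineOpen V) (r : ℕ) (U : X.Opens)
      (g : (U : Scheme.{u}) ⟶ Spec (CommRingCat.of (MvPolynomial (Fin r) Γ(S, V)))),
      x ∈ U ∧ g ≫ Spec.map (CommRingCat.ofHom MvPolynomial.C) ≫ hV.fromSpec = U.ι ≫ f ∧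
        Flat g ∧ LocallyQuasiFinite g := by
  let s := f x
  haveI : LocallyOfFiniteType (f.fiberToSpecResidueField s) :=
    MorphismProperty.pullback_snd f _ inferInstance
  haveI : JacobsonSpace (f.fiber s) := LocallyOfFiniteType.jacobsonSpace (f.fiberToSpecResidueField s)
  let O := {w : f.fiber s | LocCoh.IsCohenMacaulayLocalRing ((f.fiber s).presheaf.stalk w)} ∩
    f.fiberι s ⁻¹' {y : X | (f.stalkMap y).hom.Flat}
  have hO : IsOpen O := IsOpen.inter (@isOpen_cm_field (S.residueField s) _ _ (f.fiberToSpecResidueField s) ‹_›)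
    ((GrothLib.FibreFlat.isOpen_flat_stalkMap f).preimage (f.fiberι s).continuous)
  have hwO : f.asFiber x ∈ O :=
    ⟨(cm_fiber_stalk_iff f s (f.asFiber x) x (f.fiberι_asFiber x)).2 ((isCMAt_iff f x).1 h).2,
      by rw [Set.mem_preimage, f.fiberι_asFiber]; exact h.1⟩
  obtain ⟨w₀, ⟨hw₀O, hw₀c⟩, hw₀⟩ := nonempty_inter_closedPoints (Z := O ∩ closure {f.asFiber x})
    ⟨_, hwO, subset_closure rfl⟩ (hO.isLocallyClosed.inter isClosed_closure.isLocallyClosed)
  have hspe : x ⤳ f.fiberι s w₀ := by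
    rw [← f.fiberι_asFiber x]
    exact (specializes_iff_mem_closure.2 hw₀c).map (f.fiberι s).continuous
  have hfs : f (f.fiberι s w₀) = s := (f.range_fiberι s).le ⟨w₀, rfl⟩
  obtain ⟨V, hV, r, U, g, hU, hg, hgf, hgq, -⟩ := exists_slice_of_closed f (f.fiberι s w₀) (fun z hz hfz => by
      obtain ⟨z', rfl⟩ := (f.range_fiberι s).ge (hfz.trans hfs : f z = s)
      rw [(f.fiberι s).isEmbedding.isInducing.specializes_iff] at hz
      have := specializes_iff_mem_closure.1 hz
      rw [IsClosed.closure_eq (mem_closedPoints_iff.1 hw₀)] at this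
      rw [Set.mem_singleton_iff.1 this])
    ((isCMAt_iff f _).2 ⟨hw₀O.2, (cm_fiber_stalk_iff f s w₀ _ rfl).1 hw₀O.1⟩)
  exact ⟨V, hV, r, U, g, hspe.mem_open U.2 hU, hg, hgf, hgq⟩

theorem isOpen_cmLocus (f : X ⟶ S) [LocallyOfFinitePresentation f] :
    IsOpen {x : X | MoreMor.IsCMAt f x} :=
  isOpen_iff_forall_mem_open.2 fun x hx => by
    obtain ⟨V, hV, r, U, g, hxU, hg, _, _⟩ := exists_slice f x hx
    exact ⟨U, fun y hy => isCMAt_of_slice hV f g hg y hy, U.2, hxU⟩

theorem dense_cmLocus_fibre (f : X ⟶ S) [Flat f] [LocallyOfFiniteType f] (s : S) :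
    Dense ((f.fiberι s) ⁻¹' {x : X | MoreMor.IsCMAt f x}) := by
  intro w
  haveI := isLocallyNoetherian_fiber f s
  have hC := irreducibleComponent_mem_irreducibleComponents w
  let η := hC.1.genericPoint
  have hη : IsGenericPoint η (irreducibleComponent w) :=
    hC.1.isGenericPoint_genericPoint isClosed_irreducibleComponent
  have hgen : ∀ z, z ⤳ η → z = η := fun z hz => by
    have hle : irreducibleComponent w ≤ closure {z} := by
      rw [← hη.def]; exact closure_minimal (Set.singleton_subset_iff.2 hz.mem_closure) isClosed_closure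
    have := hC.2 (y := closure {z}) isIrreducible_singleton.closure hle
    have e : closure {z} = irreducibleComponent w := le_antisymm this hle
    exact (IsGenericPoint.eq (show IsGenericPoint z (irreducibleComponent w) from e) hη)
  refine closure_mono (Set.singleton_subset_iff.2 ?_) (hη.specializes mem_irreducibleComponent).mem_closure
  show MoreMor.IsCMAt f _
  exact (isCMAt_iff f _).2 ⟨Flat.stalkMap f _,
    (cm_fiber_stalk_iff f s η _ rfl).1 (cm_stalk_of_no_generisation η hgen)⟩

end GrothLib.CMMor6
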