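import Groth.Agent.Lib.CMMor6.Open
import Groth.Prelude.Def_Mor2

/-!
# Slicing a Cohen–Macaulay morphism to a quasi-finite flat one
-/

set_option autoImplicit false
set_option linter.style.haveILetI false

universe u

open CategoryTheory CategoryTheory.Limits AlgebraicGeometry RingTheory.Sequence

namespace GrothLib.CMMor6

variable {X S : Scheme.{u}}

theorem exists_regular_slice_affine {T : Scheme.{u}} [IsAffine T] (h : T ⟶ S) [LocallyOfFinitePresentation h]
    {V₀ : S.Opens} (hV₀ : IsAffineOpen V₀) {r : ℕ}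
    (G : T ⟶ Spec (CommRingCat.of (MvPolynomial (Fin r) Γ(S, V₀))))
    (hG : G ≫ Spec.map (CommRingCat.ofHom MvPolynomial.C) ≫ hV₀.fromSpec = h) [Flat G] [LocallyQuasiFinite G]
    (t : T) (ht : ∀ i : Fin r, MvPolynomial.X i ∈ (G t).asIdeal) :
    ∃ (Z : Scheme.{u}) (i : Z ⟶ T), Mor2.IsRegularClosedImmersion i ∧ t ∈ Set.range i ∧
      Flat (i ≫ h) ∧ LocallyOfFinitePresentation (i ≫ h) ∧ LocallyQuasiFinite (i ≫ h) ∧
      ∀ z : Z, h (i z) = h t → G (i z) = G t := by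
  let A := Γ(S, V₀)
  let P := CommRingCat.of (MvPolynomial (Fin r) A)
  let B := Γ(T, ⊤)
  let φ : P ⟶ B := Spec.preimage (T.isoSpec.inv ≫ G)
  have hφ : T.isoSpec.hom ≫ Spec.map φ = G := by simp [φ, P]
  letI : Algebra A B := (CommRingCat.ofHom MvPolynomial.C ≫ φ).hom.toAlgebra
  let a : Fin r → B := fun i => φ.hom (MvPolynomial.X i)
  have haev : (MvPolynomial.aeval (R := A) a).toRingHom = φ.hom := by
    refine MvPolynomial.ringHom_ext (fun c => ?_) fun i => ?_
    · exact MvPolynomial.aeval_C (R := A) a c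
    · exact MvPolynomial.aeval_X (R := A) a i
  haveI : Flat (Spec.map φ) := by
    have e : Spec.map φ = T.isoSpec.inv ≫ G := Spec.map_preimage _
    rw [e]; infer_instance
  haveI : LocallyQuasiFinite (Spec.map φ) := by
    have e : Spec.map φ = T.isoSpec.inv ≫ G := Spec.map_preimage _
    rw [e]; infer_instance
  have hflat : (MvPolynomial.aeval (R := A) a).toRingHom.Flat := haev ▸ Flat.SpecMap_iff.mp ‹_›
  let I : Ideal B := Ideal.ofList (List.ofFn a)
  let mk : B ⟶ CommRingCat.of (B ⧸ I) := CommRingCat.ofHom (Ideal.Quotient.mk I)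
  let i : Spec (CommRingCat.of (B ⧸ I)) ⟶ T := Spec.map mk ≫ T.isoSpec.inv
  haveI : IsClosedImmersion (Spec.map mk) := IsClosedImmersion.spec_of_surjective _ Ideal.Quotient.mk_surjective
  haveI : IsClosedImmersion i := MorphismProperty.comp_mem _ _ _ ‹IsClosedImmersion (Spec.map mk)› inferInstance
  have hiφ : i ≫ G = Spec.map (φ ≫ mk) := by
    simp only [i, ← hφ, Category.assoc, Iso.inv_hom_id_assoc, ← Spec.map_comp]
  let q : Spec (CommRingCat.of (B ⧸ I)) ⟶ Spec A := Spec.map (CommRingCat.ofHom MvPolynomial.C ≫ φ ≫ mk)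
  let σ : Spec A ⟶ Spec P := Spec.map (CommRingCat.ofHom (MvPolynomial.aeval (R := A) (0 : Fin r → A)).toRingHom)
  have hqσ : q ≫ σ = i ≫ G := by
    rw [hiφ, ← Spec.map_comp]
    congr 1
    refine CommRingCat.hom_ext (MvPolynomial.ringHom_ext (fun c => ?_) fun j => ?_)
    · simp [P]
    · refine Eq.trans ?_ (Ideal.Quotient.eq_zero_iff_mem.2 (Ideal.subset_span (List.mem_ofFn.2 ⟨j, rfl⟩) : a j ∈ I)).symm
      simp [P]
  have hq : i ≫ h = q ≫ hV₀.fromSpec := by
    rw [← hG, reassoc_of% hiφ, ← Spec.map_comp_assoc]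
  have hqflat : Flat q := Flat.SpecMap_iff.mpr (GrothLib.FibreFlat.flat_quotient_of_flat_aeval hflat)
  have htI : T.isoSpec.hom t ∈ PrimeSpectrum.zeroLocus (I : Set B) := by
    refine (PrimeSpectrum.mem_zeroLocus _ _).2 (SetLike.coe_subset_coe.2 ?_)
    refine Ideal.span_le.2 fun b hb => ?_
    obtain ⟨j, rfl⟩ := List.mem_ofFn.1 hb
    have := ht j
    rw [← hφ] at this
    exact this
  have htr : t ∈ Set.range i := by
    obtain ⟨z, hz⟩ : T.isoSpec.hom t ∈ Set.range (PrimeSpectrum.comap (Ideal.Quotient.mk I)) := by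
      rw [range_comap_of_surjective _ _ Ideal.Quotient.mk_surjective, Ideal.mk_ker]
      exact htI
    refine ⟨z, ?_⟩
    show T.isoSpec.inv (Spec.map mk z) = t
    rw [show Spec.map mk z = T.isoSpec.hom t from hz, ← Scheme.Hom.comp_apply, Iso.hom_inv_id]
    rfl
  refine ⟨_, i, ⟨inferInstance, fun z => ⟨⊤, isAffineOpen_top T, trivial, List.ofFn a,
    ⟨GrothLib.FibreFlat.weaklyRegular_of_flat_aeval hflat, ?_⟩, ?_⟩⟩, htr, ?_, ?_, ?_, ?_⟩
  · rw [smul_eq_mul, Ideal.mul_top]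
    intro e
    have : (T.isoSpec.hom t).asIdeal = ⊤ := top_le_iff.1 (e.le.trans ((PrimeSpectrum.mem_zeroLocus _ _).1 htI))
    exact (T.isoSpec.hom t).2.ne_top this
  · rw [Scheme.Hom.ker_apply]
    have happ : i.appTop ≫ (Scheme.ΓSpecIso _).hom = mk := by
      have e : T.isoSpec.inv.appTop = (Scheme.ΓSpecIso _).inv := by
        rw [← Iso.comp_hom_eq_id (Scheme.ΓSpecIso _), ← Scheme.toSpecΓ_appTop, ← Scheme.isoSpec_hom,
          ← Scheme.Hom.comp_appTop, Iso.hom_inv_id, Scheme.Hom.id_appTop]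
      simp only [i, Scheme.Hom.comp_appTop, Category.assoc, Scheme.ΓSpecIso_naturality, e]
      exact Iso.inv_hom_id_assoc _ _
    ext b
    show i.appTop b = 0 ↔ b ∈ I
    rw [← Ideal.Quotient.eq_zero_iff_mem, ← show mk.hom b = Ideal.Quotient.mk I b from rfl, ← happ]
    exact (map_eq_zero_iff _ (Scheme.ΓSpecIso _).commRingCatIsoToRingEquiv.injective).symm
  · rw [hq]; infer_instance
  · haveI : LocallyOfFinitePresentation (Spec.map mk) := (HasRingHomProperty.Spec_iff (P := @LocallyOfFinitePresentation)).2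
      (RingHom.FinitePresentation.of_surjective _ Ideal.Quotient.mk_surjective
        (by rw [show RingHom.ker mk.hom = I from Ideal.mk_ker]
            exact Submodule.fg_span (List.finite_toSet _)))
    infer_instance
  · haveI : LocallyQuasiFinite (q ≫ σ) := hqσ ▸ inferInstance
    haveI : LocallyQuasiFinite q := LocallyQuasiFinite.of_comp q σ
    rw [hq]; infer_instance
  · obtain ⟨z₀, rfl⟩ := htr
    intro z hz
    rw [← Scheme.Hom.comp_apply i h, ← Scheme.Hom.comp_apply i h, hq] at hz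
    simp only [Scheme.Hom.comp_apply] at hz
    rw [← Scheme.Hom.comp_apply i G, ← Scheme.Hom.comp_apply i G, ← hqσ]
    simp only [Scheme.Hom.comp_apply]
    rw [hV₀.fromSpec.isEmbedding.injective hz]

theorem exists_regular_slice (f : X ⟶ S) [LocallyOfFinitePresentation f] (x : X)
    (hcm : MoreMor.IsCMAt f x) (hcl : IsClosed ({f.asFiber x} : Set (f.fiber (f x)))) :
    ∃ (V : X.Opens) (Z : Scheme.{u}) (i : Z ⟶ (V : Scheme.{u})), Mor2.IsRegularClosedImmersion i ∧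
      x ∈ Set.range (i ≫ V.ι) ∧
      Flat (i ≫ V.ι ≫ f) ∧ LocallyOfFinitePresentation (i ≫ V.ι ≫ f) ∧ LocallyQuasiFinite (i ≫ V.ι ≫ f) ∧
      ∀ z : Z, f (V.ι (i z)) = f x → V.ι (i z) = x := by
  obtain ⟨V₀, hV₀, r, U, g, hxU, hg, _, _, hX⟩ := exists_slice_of_closed f x (fun y hy hfy => by
    obtain ⟨y', rfl⟩ := (f.range_fiberι (f x)).ge hfy
    have hy' : f.asFiber x ⤳ y' := (f.fiberι (f x)).isEmbedding.isInducing.specializes_iff.1
      ((specializes_of_eq (f.fiberι_asFiber x)).trans hy)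
    have := specializes_iff_mem_closure.1 hy'
    rw [hcl.closure_eq, Set.mem_singleton_iff] at this
    rw [this, f.fiberι_asFiber]) hcm
  let x' : (U : Scheme.{u}) := ⟨x, hxU⟩
  obtain ⟨O, hO, hOeq⟩ : ∃ O : Set (U : Scheme.{u}), IsOpen O ∧ O ∩ g ⁻¹' {g x'} = {x'} := by
    obtain ⟨O, hO, hOe⟩ := isOpen_induced_iff.1 (@isOpen_discrete _ _ (isDiscrete_iff_discreteTopology.mp
      (g.isDiscrete_preimage_singleton (g x'))) ({⟨x', rfl⟩} : Set (g ⁻¹' {g x'})))
    refine ⟨O, hO, ?_⟩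
    rw [Set.inter_comm, ← Subtype.image_preimage_val, hOe, Set.image_singleton]
  obtain ⟨_, ⟨(V : X.Opens), hV, rfl⟩, hxV, hVO⟩ := X.isBasis_affineOpens.exists_subset_of_mem_open
    (a := x) (u := U.ι '' O) ⟨x', (hOeq.ge rfl).1, rfl⟩ (U.ι.isOpenMap _ hO)
  have hVU : V ≤ U := fun y hy => by
    obtain ⟨y', -, rfl⟩ := hVO hy
    exact y'.2
  haveI : IsAffine (V : Scheme.{u}) := hV
  let G := X.homOfLE hVU ≫ g
  obtain ⟨Z, i, hi, ⟨z₀, hz₀⟩, h1, h2, h3, h4⟩ := exists_regular_slice_affine (V.ι ≫ f) hV₀ G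
    (by rw [Category.assoc, hg, Scheme.homOfLE_ι_assoc]) ⟨x, hxV⟩ (fun j => by
      show MvPolynomial.X j ∈ ((X.homOfLE hVU ≫ g) ⟨x, hxV⟩).asIdeal
      rw [Scheme.Hom.comp_apply, show X.homOfLE hVU ⟨x, hxV⟩ = x' from
        U.ι.isEmbedding.injective (by rw [← Scheme.Hom.comp_apply, Scheme.homOfLE_ι]; rfl)]
      exact hX hxU j)
  refine ⟨V, Z, i, hi, ⟨z₀, by rw [Scheme.Hom.comp_apply, hz₀]; rfl⟩, h1, h2, h3, fun z hz => ?_⟩
  have hG := h4 z hz
  obtain ⟨y, hyO, hy⟩ := hVO (i z).2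
  have e1 : X.homOfLE hVU (i z) = y := U.ι.isEmbedding.injective (by
    rw [← Scheme.Hom.comp_apply, Scheme.homOfLE_ι]; exact hy.symm)
  have e2 : X.homOfLE hVU ⟨x, hxV⟩ = x' := U.ι.isEmbedding.injective (by
    rw [← Scheme.Hom.comp_apply, Scheme.homOfLE_ι]; rfl)
  simp only [G, Scheme.Hom.comp_apply, e1, e2] at hG
  have : y = x' := hOeq.le ⟨hyO, hG⟩
  show (i z).1 = x
  rw [← hy, this]
  rfl

end GrothLib.CMMor6
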